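import Mathlib

/-!
# Commuting automorphisms of a group of order eight

An additive map with fourth power the identity and square not the identity, on a group of exponent
two and order eight, commutes with at most four additive bijections.
Owner: helper67.
-/

set_option autoImplicit false
set_option linter.style.haveILetI false
set_option linter.unusedSectionVars false

namespace Cfsg.Agent.Lib.Crit5.KillOne

theorem card_le_four_of_commute {V : Type*} [AddCommGroup V] [Finite V] (h8 : Nat.card V = 8)
    (h2 : ∀ v : V, v + v = 0) (L : V →+ V) (h4 : ∀ v, L (L (L (L v))) = v)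
    {v : V} (hv : L (L v) ≠ v) {I : Type*} [Finite I] (f : I → V →+ V)
    (hinj : ∀ i, Function.Injective (f i)) (hcomm : ∀ i z, f i (L z) = L (f i z))
    (hext : ∀ i j, (∀ z, f i z = f j z) → i = j) : Nat.card I ≤ 4 := by
  classical
  haveI := Fintype.ofFinite V
  have hcan : ∀ y z : V, y + (y + z) = z := fun y z => by rw [← add_assoc, h2, zero_add]
  have hz : ∀ y z : V, y + z = 0 → y = z := fun y z h => by
    rw [← add_zero y, ← h, hcan]
  set N : V → V := fun z => L z + z with hN
  set K : V → V := fun z => L (L z) + z with hK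
  have hKN : ∀ z, N (N z) = K z := fun z => by
    simp only [hN, hK, map_add]
    rw [add_assoc, hcan]
  have hNadd : ∀ y z, N (y + z) = N y + N z := fun y z => by
    simp only [hN, map_add]; abel
  have hKadd : ∀ y z, K (y + z) = K y + K z := fun y z => by
    simp only [hK, map_add]; abel
  have hKK : ∀ z, K (K z) = 0 := fun z => by
    simp only [hK, map_add, h4]
    rw [add_comm (L (L z)) z, h2]
  have hKv : K v ≠ 0 := fun h => hv (hz _ _ h)
  -- four points of the kernel
  obtain ⟨p, s, hp, hs, hp0, hs0, hps, hgen⟩ : ∃ p s : V, K p = 0 ∧ K s = 0 ∧ p ≠ 0 ∧ s ≠ 0 ∧ p ≠ s ∧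
      ∀ k : V →+ V, (∀ z, k (L z) = L (k z)) → k v = v → k p = p ∧ k s = s := by
    have hfix : ∀ k : V →+ V, (∀ z, k (L z) = L (k z)) → ∀ z, k z = z → k (N z) = N z :=
      fun k hk z h => by simp only [hN, map_add, hk, h]
    by_cases h3 : N (K v) = 0
    · refine ⟨N v, K v, ?_, hKK v, ?_, hKv, ?_, fun k hk h => ⟨hfix k hk v h, ?_⟩⟩
      · rw [← hKN (N v), hKN v]; exact h3
      · intro h
        refine hKv ?_
        rw [← hKN, h]; simp [hN]
      · intro h
        refine hKv ?_
        rw [← hKN, h]; exact h3
      · rw [← hKN]; exact hfix k hk _ (hfix k hk v h)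
    · refine ⟨K v, N (K v), hKK v, ?_, hKv, h3, ?_, fun k hk h => ?_⟩
      · rw [← hKN (N (K v)), hKN (K v), hKK]; simp [hN]
      · intro h
        refine hKv ?_
        have h5 := congrArg N h
        rw [hKN (K v), hKK] at h5
        exact absurd h5 h3
      · have h6 : k (K v) = K v := by
          rw [← hKN]; exact hfix k hk _ (hfix k hk v h)
        exact ⟨h6, hfix k hk _ h6⟩
  have hfour : ({0, p, s, p + s} : Finset V).card = 4 := by
    have h1 : (0 : V) ≠ p + s := fun h => hps (hz _ _ h.symm)
    have h2' : p ≠ p + s := fun h => hs0 (add_left_cancel (a := p) (by rw [add_zero]; exact h.symm))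
    have h3 : s ≠ p + s := fun h => hp0 (add_right_cancel (b := s) (by rw [zero_add]; exact h.symm))
    simp [Finset.card_insert_of_notMem, hp0.symm, hs0.symm, h1, hps, h2', h3]
  have hKfour : ∀ z ∈ ({0, p, s, p + s} : Finset V), K z = 0 := by
    intro z hz
    simp only [Finset.mem_insert, Finset.mem_singleton] at hz
    rcases hz with rfl | rfl | rfl | rfl
    · simp [hK]
    · exact hp
    · exact hs
    · rw [hKadd, hp, hs, add_zero]
  set T := (Finset.univ : Finset V).filter fun z => K z ≠ 0
  have hT : T.card ≤ 4 := by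
    have hdis : Disjoint T ({0, p, s, p + s} : Finset V) := Finset.disjoint_left.2 fun z hz hz' =>
      (Finset.mem_filter.1 hz).2 (hKfour z hz')
    have h := Finset.card_le_univ (T ∪ ({0, p, s, p + s} : Finset V))
    rw [Finset.card_union_of_disjoint hdis, hfour, ← Nat.card_eq_fintype_card, h8] at h
    omega
  let e : I → T := fun i => ⟨f i v, Finset.mem_filter.2 ⟨Finset.mem_univ _, fun h => hKv (hinj i (by
    rw [map_zero]
    simp only [hK, map_add, hcomm] at h ⊢
    exact h))⟩⟩
  refine (Nat.card_le_card_of_injective e fun i j hij => ?_).trans (by simpa using hT)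
  have hij' : f i v = f j v := congrArg Subtype.val hij
  -- a difference fixing the generator
  obtain ⟨fj, hfj⟩ : ∃ k : V →+ V, ∀ z, f j (k z) = f i z := by
    have hb := Finite.injective_iff_bijective.1 (hinj j)
    refine ⟨(AddEquiv.ofBijective (f j) hb).symm.toAddMonoidHom.comp (f i), fun z => ?_⟩
    exact (AddEquiv.ofBijective (f j) hb).apply_symm_apply (f i z)
  have hkv : fj v = v := hinj j (by rw [hfj, hij'])
  obtain ⟨hkp, hks⟩ := hgen fj (fun z => hinj j (by rw [hfj, hcomm, hcomm, hfj])) hkv
  refine hext i j fun z => ?_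
  rw [← hfj]
  congr 1
  set F := (Finset.univ : Finset V).filter fun z => fj z = z
  have hsub : ({0, p, s, p + s} : Finset V) ∪
      ({0, p, s, p + s} : Finset V).image (fun z => v + z) ⊆ F := by
    have h4' : ∀ z ∈ ({0, p, s, p + s} : Finset V), fj z = z := by
      intro z hz
      simp only [Finset.mem_insert, Finset.mem_singleton] at hz
      rcases hz with rfl | rfl | rfl | rfl
      exacts [map_zero fj, hkp, hks, by rw [map_add, hkp, hks]]
    intro z hz
    refine Finset.mem_filter.2 ⟨Finset.mem_univ _, ?_⟩
    rcases Finset.mem_union.1 hz with h | h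
    · exact h4' z h
    · obtain ⟨y, hy, rfl⟩ := Finset.mem_image.1 h
      rw [map_add, hkv, h4' y hy]
  have hcard : Fintype.card V ≤ F.card := by
    refine le_trans ?_ (Finset.card_le_card hsub)
    rw [Finset.card_union_of_disjoint ?_, Finset.card_image_of_injective _ (add_right_injective v),
      hfour, ← Nat.card_eq_fintype_card, h8]
    refine Finset.disjoint_left.2 fun y hy hy' => ?_
    obtain ⟨y', hy'', rfl⟩ := Finset.mem_image.1 hy'
    have := hKfour _ hy
    rw [hKadd, hKfour _ hy'', add_zero] at this
    exact hKv this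
  have hFu : F = Finset.univ := Finset.eq_univ_of_card F (le_antisymm (Finset.card_le_univ F) hcard)
  have hzF : z ∈ F := hFu.symm ▸ Finset.mem_univ z
  exact (Finset.mem_filter.1 hzF).2

end Cfsg.Agent.Lib.Crit5.KillOne
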