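import Mathlib

/-!
# A central extension by two of a group of order eight

If every lift of an involution is an involution and the quotient is elementary whenever it is
abelian, the kernel is outside some normal subgroup with abelian quotient.
Owner: helper67.
-/

set_option autoImplicit false
set_option linter.style.haveILetI false

namespace Cfsg.Agent.Lib.Crit5.KillOne

theorem exists_quot_eight {W P : Type*} [Group W] [Group P] [Finite P] (f : W →* P)
    (hf : Function.Surjective f) {x : W} (hker : ∀ w, f w = 1 ↔ (w = 1 ∨ w = x)) (hx : x ≠ 1)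
    (hx2 : x * x = 1) (hxc : ∀ w, Commute x w)
    (hlift : ∀ w, f w ≠ 1 → f w * f w = 1 → w * w = 1) (hP : Nat.card P = 8)
    (hab : (∀ s t : P, s * t = t * s) → ∀ s : P, s * s = 1) :
    ∃ Q : Subgroup W, (∀ s t : W, s * t * s⁻¹ * t⁻¹ ∈ Q) ∧ x ∉ Q := by
  classical
  by_cases hcomm : ∀ s t : P, s * t = t * s
  · refine ⟨⊥, fun s t => ?_, by simpa using hx⟩
    have hexp : ∀ w : W, w * w = 1 := fun w => by
      by_cases h : f w = 1
      · rcases (hker w).1 h with rfl | rfl
        exacts [one_mul 1, hx2]
      · exact hlift w h (hab hcomm _)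
    have hinv : ∀ w : W, w⁻¹ = w := fun w => inv_eq_of_mul_eq_one_right (hexp w)
    rw [Subgroup.mem_bot, hinv s, hinv t, mul_assoc]
    exact hexp (s * t)
  -- an element of order four
  obtain ⟨a, ha⟩ : ∃ a : P, orderOf a = 4 := by
    by_contra hall
    push Not at hall
    by_cases h8 : ∃ g : P, orderOf g = 8
    · obtain ⟨g, hg⟩ := h8
      haveI : IsCyclic P := isCyclic_of_orderOf_eq_card g (by rw [hg, hP])
      letI := @IsCyclic.commGroup P _ _
      exact hcomm fun s t => mul_comm s t
    · push Not at h8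
      have hexp : ∀ s : P, s * s = 1 := fun s => by
        have hd : orderOf s ∣ 2 ^ 3 := by rw [show (2 : ℕ) ^ 3 = 8 by norm_num, ← hP]; exact orderOf_dvd_natCard s
        obtain ⟨j, hj, hjs⟩ := (Nat.dvd_prime_pow Nat.prime_two).1 hd
        have h4 := hall s
        have h88 := h8 s
        interval_cases j
        · rw [pow_zero, orderOf_eq_one_iff] at hjs; rw [hjs, one_mul]
        · rw [← pow_two, ← orderOf_dvd_iff_pow_eq_one, hjs, pow_one]
        · exact absurd hjs h4
        · exact absurd hjs h88
      have hinv : ∀ s : P, s⁻¹ = s := fun s => inv_eq_of_mul_eq_one_right (hexp s)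
      exact hcomm fun s t => by rw [← hinv (s * t), mul_inv_rev, hinv, hinv]
  set A := Subgroup.zpowers a
  have hA : A.index = 2 := by
    have h := Subgroup.card_mul_index A
    rw [Nat.card_zpowers, ha, hP] at h
    omega
  obtain ⟨b, hb⟩ : ∃ b : P, b ∉ A := by
    by_contra hall
    push Not at hall
    rw [(Subgroup.eq_top_iff' A).2 hall, Subgroup.index_top] at hA
    omega
  have ha4 : a ^ 4 = 1 := by rw [← ha, pow_orderOf_eq_one]
  have ha1 : a ≠ 1 := fun h => by rw [h, orderOf_one] at ha; omega
  have ha2 : a ^ 2 ≠ 1 := pow_ne_one_of_lt_orderOf two_ne_zero (by omega)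
  have hmemA : ∀ y ∈ A, y = 1 ∨ y = a ∨ y = a ^ 2 ∨ y = a ^ 3 := by
    intro y hy
    obtain ⟨k, rfl⟩ := (IsOfFinOrder.mem_powers_iff_mem_zpowers (isOfFinOrder_of_finite a)).2 hy
    have h : a ^ k = a ^ (k % 4) := by rw [← ha, pow_mod_orderOf]
    show a ^ k = 1 ∨ a ^ k = a ∨ a ^ k = a ^ 2 ∨ a ^ k = a ^ 3
    rw [h]
    have := Nat.mod_lt k (show 4 > 0 by omega)
    interval_cases (k % 4) <;> simp
  haveI hAn : A.Normal := Subgroup.normal_of_index_eq_two hA
  have hbab : b * a * b⁻¹ = a ^ 3 := by
    rcases hmemA _ (hAn.conj_mem a (Subgroup.mem_zpowers a) b) with h | h | h | h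
    · exact absurd (conj_eq_one_iff.1 h) ha1
    · exfalso
      refine hcomm fun s t => ?_
      have hab' : Commute b a := mul_inv_eq_iff_eq_mul.1 h
      have hgen : ∀ s : P, Commute s a ∧ Commute s b := by
        intro s
        by_cases hs : s ∈ A
        · obtain ⟨k, rfl⟩ := hs
          exact ⟨(Commute.refl a).zpow_left k, hab'.symm.zpow_left k⟩
        · have h1 : s * b ∈ A := (Subgroup.mul_mem_iff_of_index_two hA).2 (iff_of_false hs hb)
          obtain ⟨k, hk⟩ := h1
          have e : s = a ^ k * b⁻¹ := by rw [show a ^ k = s * b from hk]; group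
          rw [e]
          exact ⟨((Commute.refl a).zpow_left k).mul_left hab'.inv_left,
            (hab'.symm.zpow_left k).mul_left (Commute.refl b).inv_left⟩
      by_cases hs : s ∈ A
      · obtain ⟨k, rfl⟩ := hs
        exact ((hgen t).1.symm.zpow_left k).eq
      · obtain ⟨k, hk⟩ := (Subgroup.mul_mem_iff_of_index_two hA).2 (iff_of_false hs hb)
        rw [show s = a ^ k * b⁻¹ by rw [show a ^ k = s * b from hk]; group]
        exact (((hgen t).1.symm.zpow_left k).mul_left (hgen t).2.symm.inv_left).eq
    · refine absurd ?_ ha2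
      have h1 : (b * a * b⁻¹) ^ 2 = 1 := by
        rw [h, ← pow_mul, ha4]
      rwa [conj_pow, conj_eq_one_iff] at h1
    · exact h
  obtain ⟨α, hα⟩ := hf a
  obtain ⟨β, hβ⟩ := hf b
  set c := α * β * α⁻¹ * β⁻¹ with hc
  have hfc : f c = a ^ 2 := by
    rw [hc]; simp only [map_mul, map_inv, hα, hβ]
    have e : a * b * a⁻¹ * b⁻¹ = a * (b * a * b⁻¹)⁻¹ := by group
    rw [e, hbab, show (a ^ 3)⁻¹ = a from inv_eq_of_mul_eq_one_left (by rw [← pow_succ']; exact ha4)]
    exact (pow_two a).symm
  have hcc : c * c = 1 := hlift c (by rw [hfc]; exact ha2) (by rw [hfc, ← pow_add]; exact ha4)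
  have hlifteq : ∀ y z : W, f y = f z → y = z ∨ y = z * x := by
    intro y z h
    rcases (hker (z⁻¹ * y)).1 (by rw [map_mul, map_inv, h, inv_mul_cancel]) with h' | h'
    · exact Or.inl (inv_mul_eq_one.1 h').symm
    · exact Or.inr (inv_mul_eq_iff_eq_mul.1 h')
  have hcsq : ∀ y : W, f (y * y) = a ^ 2 → Commute c y := by
    intro y h
    have hyy : Commute (y * y) y := (Commute.refl y).mul_left (Commute.refl y)
    rcases hlifteq c (y * y) (hfc.trans h.symm) with h' | h' <;> rw [h']
    exacts [hyy, hyy.mul_left (hxc y)]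
  have hcα : Commute c α := hcsq α (by rw [map_mul, hα, pow_two])
  have hcβ : Commute c β := by
    by_cases hbb : b * b = 1
    · have hβ2 : β * β = 1 := hlift β (by rw [hβ]; exact fun h => hb (h ▸ one_mem A))
        (by rw [hβ]; exact hbb)
      have hcinv : c⁻¹ = c := inv_eq_of_mul_eq_one_right hcc
      have hβi : β⁻¹ = β := inv_eq_of_mul_eq_one_right hβ2
      have e : β * c * β⁻¹ = c := by
        rw [hβi]
        calc β * c * β = β * (α * β * α⁻¹) * (β⁻¹ * β) := by rw [hc]; group
          _ = c⁻¹ := by
            rw [inv_mul_cancel, mul_one, hc]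
            simp only [mul_inv_rev, inv_inv, hβi, mul_assoc]
          _ = c := hcinv
      exact (mul_inv_eq_iff_eq_mul.1 e).symm
    · refine hcsq β ?_
      rw [map_mul, hβ]
      have hmem : b * b ∈ A := (Subgroup.mul_mem_iff_of_index_two hA).2 Iff.rfl
      have hord : (b * b) * (b * b) = 1 := by
        rcases hmemA _ hmem with h | h | h | h
        · exact absurd h hbb
        · exfalso
          refine hb ?_
          have hcb : Commute b a := h ▸ (Commute.refl b).mul_right (Commute.refl b)
          rw [hcb.eq, mul_inv_cancel_right] at hbab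
          have : a ^ 2 = 1 := mul_left_cancel (a := a) (by rw [mul_one, ← pow_succ']; exact hbab.symm)
          exact absurd this ha2
        · rw [h, ← pow_add]; exact ha4
        · exfalso
          have hcb : Commute b (a ^ 3) := h ▸ (Commute.refl b).mul_right (Commute.refl b)
          have hcb' : Commute b a := by
            have h9 := hcb.pow_right 3
            rwa [← pow_mul, show 3 * 3 = 4 * 2 + 1 by norm_num, pow_succ, pow_mul, ha4, one_pow,
              one_mul] at h9
          rw [hcb'.eq, mul_inv_cancel_right] at hbab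
          have : a ^ 2 = 1 := mul_left_cancel (a := a) (by rw [mul_one, ← pow_succ']; exact hbab.symm)
          exact absurd this ha2
      rcases hmemA _ hmem with h | h | h | h
      · exact absurd h hbb
      · rw [h] at hord; exact absurd (by rw [pow_two]; exact hord) ha2
      · exact h
      · rw [h, ← pow_add, show 3 + 3 = 4 + 2 by norm_num, pow_add, ha4, one_mul] at hord
        exact absurd hord ha2
  -- the generators
  have hgen : ∀ w : W, w ∈ Subgroup.closure ({α, β, x} : Set W) := by
    intro w
    have hα' : α ∈ Subgroup.closure ({α, β, x} : Set W) := Subgroup.subset_closure (by simp)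
    have hβ' : β ∈ Subgroup.closure ({α, β, x} : Set W) := Subgroup.subset_closure (by simp)
    have hx' : x ∈ Subgroup.closure ({α, β, x} : Set W) := Subgroup.subset_closure (by simp)
    obtain ⟨y, hy, hyw⟩ : ∃ y ∈ Subgroup.closure ({α, β, x} : Set W), f y = f w := by
      by_cases hw : f w ∈ A
      · obtain ⟨k, hk⟩ := hw
        exact ⟨α ^ k, zpow_mem hα' k, by rw [map_zpow, hα]; exact hk⟩
      · obtain ⟨k, hk⟩ := (Subgroup.mul_mem_iff_of_index_two hA).2 (iff_of_false hw hb)
        refine ⟨α ^ k * β⁻¹, mul_mem (zpow_mem hα' k) (inv_mem hβ'), ?_⟩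
        rw [map_mul, map_zpow, map_inv, hα, hβ, show a ^ k = f w * b from hk, mul_inv_cancel_right]
    rcases hlifteq w y hyw.symm with h | h <;> rw [h]
    exacts [hy, mul_mem hy hx']
  have hcw : ∀ w : W, Commute c w := fun w => by
    have h : Subgroup.closure ({α, β, x} : Set W) ≤ Subgroup.centralizer {c} :=
      (Subgroup.closure_le _).2 (by
        rintro _ (rfl | rfl | rfl) <;> refine Subgroup.mem_centralizer_singleton_iff.2 ?_
        exacts [hcα.symm.eq, hcβ.symm.eq, (hxc c).eq])
    exact (Subgroup.mem_centralizer_singleton_iff.1 (h (hgen w))).symm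
  set Q := Subgroup.zpowers c
  haveI : Q.Normal := ⟨fun y hy g => by
    obtain ⟨k, rfl⟩ := hy
    show g * c ^ k * g⁻¹ ∈ Q
    rw [((hcw g).symm.zpow_right k).eq, mul_inv_cancel_right]
    exact zpow_mem (Subgroup.mem_zpowers c) k⟩
  refine ⟨Q, fun s t => ?_, fun h => ?_⟩
  · set π := QuotientGroup.mk' Q
    have hπ : ∀ w, π w = 1 ↔ w ∈ Q := fun w => QuotientGroup.eq_one_iff w
    have hαβ : Commute (π α) (π β) := by
      have h1 : π (α * β * α⁻¹ * β⁻¹) = 1 := (hπ _).2 (Subgroup.mem_zpowers c)
      simp only [map_mul, map_inv] at h1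
      exact mul_inv_eq_iff_eq_mul.1 (mul_inv_eq_one.1 h1)
    have hxW : ∀ w, Commute (π x) (π w) := fun w => (hxc w).map π
    have key : ∀ g ∈ ({α, β, x} : Set W), ∀ w, Commute (π g) (π w) := by
      intro g hg w
      have h : Subgroup.closure ({α, β, x} : Set W) ≤ (Subgroup.centralizer {π g}).comap π :=
        (Subgroup.closure_le _).2 (by
          intro z hz
          show π z ∈ Subgroup.centralizer {π g}
          refine Subgroup.mem_centralizer_singleton_iff.2 ?_
          rcases hg with rfl | rfl | rfl <;> rcases hz with rfl | rfl | rfl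
          exacts [rfl, hαβ.symm.eq, (hxW _).eq, hαβ.eq, rfl, (hxW _).eq, (hxW _).eq.symm,
            (hxW _).eq.symm, rfl])
      exact (Subgroup.mem_centralizer_singleton_iff.1 (h (hgen w))).symm
    have hall : Commute (π s) (π t) := by
      have h : Subgroup.closure ({α, β, x} : Set W) ≤ (Subgroup.centralizer {π t}).comap π :=
        (Subgroup.closure_le _).2 fun z hz =>
          Subgroup.mem_centralizer_singleton_iff.2 (key z hz t).eq
      exact Subgroup.mem_centralizer_singleton_iff.1 (h (hgen s))
    rw [← hπ]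
    simp only [map_mul, map_inv]
    rw [hall.eq, mul_inv_cancel_right, mul_inv_cancel]
  · obtain ⟨k, hk⟩ := h
    have h2 : c ^ (2 : ℤ) = 1 := by rw [zpow_two]; exact hcc
    rcases Int.even_or_odd k with ⟨j, hj⟩ | ⟨j, hj⟩
    · exact hx (by rw [← show c ^ k = x from hk, hj, ← two_mul, zpow_mul, h2, one_zpow])
    · refine ha2 ?_
      rw [← hfc, show c = x by
        rw [← show c ^ k = x from hk, hj, zpow_add, zpow_mul, h2, one_zpow, one_mul, zpow_one]]
      exact (hker x).2 (Or.inr rfl)

end Cfsg.Agent.Lib.Crit5.KillOne
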