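import Cfsg.Agent.Lib.Crit5.KillOne.OneTr

/-!
# The single fixed point criterion, type one with `r = 1`: translations of the bad coset

When the normaliser of `Mx` in `CE` moves `x` modulo the members it is a Sylow subgroup of `CE`
transitive on the points other than `a`, and an invariant complement gives a transfer.
Owner: helper67.
-/

set_option autoImplicit false
set_option linter.style.haveILetI false
set_option linter.unusedSectionVars false

namespace Cfsg.Agent.Lib.Crit5.KillOne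

open MulAction Subgroup Cfsg.Agent.Lib.Involutions.Basic
open Cfsg.Agent.Lib.Crit8 (Action Pre Bad memAt memSwap)

universe u

variable {G Ω : Type u} [Group G] [MulAction G Ω] [Finite G] {D : Set G} {q : ℕ}
  (U : Uni D Ω q 1) {x : G} {a : Ω} (hx : Bad G Ω x) (ha : x • a = a)

include U hx ha

/-- A Sylow subgroup over a 2-group in `CE` containing the members fixes `a`. -/
theorem sylow_fix (S : Sylow 2 G) (hES : ES D x a ≤ (S : Subgroup G)) :
    ∀ s ∈ (S : Subgroup G), s • a = a := by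
  haveI := U.finite_pts
  haveI : Fact (Nat.Prime 2) := ⟨Nat.prime_two⟩
  obtain ⟨i, hi⟩ := U.two_pow
  have h4 := U.four_le
  have hodd : ¬ 2 ∣ Nat.card Ω := by
    rw [one_card_points U]
    intro h
    have : 2 ∣ q ^ 3 := (hi ▸ dvd_pow_self 2 (by rintro rfl; omega) : 2 ∣ q).trans
      (dvd_pow_self q three_ne_zero)
    omega
  obtain ⟨p, hp⟩ := S.2.nonempty_fixed_point_of_prime_not_dvd_card Ω hodd
  obtain ⟨e, he⟩ : ∃ e, e ∈ memCent D x a := CountsB.exists_commute U.min x hx ha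
  have hep : e • p = p := hp ⟨e, hES (subset_closure he)⟩
  obtain rfl : p = a := U.pre.eq_of_fix he.1.1 hep he.1.2
  exact fun s hs => hp ⟨s, hs⟩

theorem card_ES_le_two_lt {K : Type*} [Field K] [Finite K] [CharP K 2] {ι : K → G}
    (T : Torus D x a K ι) : Nat.card K = q := by
  rw [← U.card_ES hx ha]
  refine Nat.card_eq_of_bijective (fun z => (⟨ι z, iota_mem U hx ha T z⟩ : ES D x a))
    ⟨fun z z' h => T.inj (congrArg Subtype.val h), fun e => ?_⟩
  obtain ⟨z, hz⟩ := exists_label U hx ha T e.2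
  exact ⟨z, Subtype.ext hz⟩

theorem exists_scalar {K : Type*} [Field K] [Finite K] [CharP K 2] {ι : K → G}
    (T : Torus D x a K ι) : ∃ c : K, c ≠ 0 ∧ c ≠ 1 := by
  classical
  haveI := Fintype.ofFinite K
  have h4 := U.four_le
  obtain ⟨c, -, hc⟩ := Finset.exists_mem_notMem_of_card_lt_card (s := ({0, 1} : Finset K))
    (t := Finset.univ) (lt_of_le_of_lt Finset.card_le_two (by
      rw [Finset.card_univ, ← Nat.card_eq_fintype_card, card_ES_le_two_lt U hx ha T]; omega))
  simp only [Finset.mem_insert, Finset.mem_singleton, not_or] at hc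
  exact ⟨c, hc.1, hc.2⟩

/-- The translation case is impossible. -/
theorem regular_false {K : Type*} [Field K] [Finite K] [CharP K 2] {ι : K → G}
    (T : Torus D x a K ι)
    (hmove : ∃ n, n ∈ NM U hx ha ∧ n ∈ CE D x a ∧ n ∉ Mx U hx ha) : False := by
  classical
  obtain ⟨b, hba, hb⟩ := U.exists_other hx ha
  haveI := U.finite_pts
  haveI : Fact (Nat.Prime 2) := ⟨Nat.prime_two⟩
  obtain ⟨hV, -⟩ := Vx_eq U hx ha hb hba
  have P := U.pre
  have hxx := invol_mul_self hx.invol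
  set E := ES D x a with hEdef
  set C := CE D x a with hCdef
  set M := Mx U hx ha with hMdef
  set Z := Tr U hx ha with hZdef
  set N := NM U hx ha ⊓ C with hNdef
  have hMN : M ≤ N := le_inf (le_NM U hx ha) fun _ h => h.1
  have hxM := self_mem_Mx U hx ha
  have hxN : x ∈ N := hMN hxM
  have hZN : Z ≤ N := (Tr_le U hx ha).trans hMN
  have hEcomm : ∀ c ∈ C, ∀ e ∈ E, Commute c e := fun c hc e he => ((U.mem_CE hx ha).1 hc).2 e he
  -- the displacement of `x`
  have hτ : ∀ n ∈ N, bet x n ∈ Z := fun n hn =>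
    self_mul_mem_Tr U hx ha (bad_conj hx n) (NM_conj hn.1 hxM)
  have hτ2 : ∀ n ∈ N, bet x (bet x n) ∈ E := fun n hn => (hτ n hn).1.2
  have hconjbet : ∀ n ∈ N, ∀ t ∈ Z, bet x (n * t * n⁻¹) = bet x t := fun n hn t ht => by
    rw [NM_bet U hx ha hn.1 ht, (hEcomm n hn.2 _ ht.1.2).eq, mul_inv_cancel_right]
  set π : G → K := fun n => Function.invFun ι (bet x (bet x n))
  have hπι : ∀ n ∈ N, ι (π n) = bet x (bet x n) := fun n hn =>
    Function.invFun_eq (exists_label U hx ha T (hτ2 n hn))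
  have hπadd : ∀ n ∈ N, ∀ m ∈ N, π (n * m) = π n + π m := by
    intro n hn m hm
    refine T.inj ?_
    have e : bet x (n * m) = bet x n * (n * bet x m * n⁻¹) := by
      simp only [bet]
      calc x * (n * m * x * (n * m)⁻¹) = x * (n * (x * (x * (m * x * m⁻¹))) * n⁻¹) := by
            rw [← mul_assoc x x, hxx, one_mul]; group
        _ = _ := by group
    rw [T.map_add, hπι _ (mul_mem hn hm), hπι n hn, hπι m hm, e,
      bet_mul U hx ha (hτ n hn).1.1 (NM_Tr U hx ha hn.1 (hτ m hm)).1.2, hconjbet n hn _ (hτ m hm)]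
  have hπker : ∀ n ∈ N, π n = 0 → n ∈ M := by
    intro n hn h0
    have h1 : bet x (bet x n) = bet x 1 := by
      rw [← hπι n hn, h0, T.map_zero, bet_of_commute hx (Commute.one_left x)]
    have h2 := Tr_eq_mod U hx ha (hτ n hn) (one_mem _) h1
    rw [inv_one, mul_one] at h2
    exact ⟨hn.2, h2⟩
  have hπM : ∀ n ∈ M, π n = 0 := by
    intro n hn
    refine T.inj ?_
    rw [hπι n (hMN hn), T.map_zero]
    exact bet_of_commute hx (U.ES_comm_self hx ha hn.2)
  -- squares
  have hsq : ∀ n ∈ N, n * n ∈ Z := by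
    intro n hn
    have h2M : n * n ∈ M := hπker _ (mul_mem hn hn) (by
      rw [hπadd n hn n hn]; exact CharTwo.add_self_eq_zero _)
    rcases Tr_of_bet U hx ha h2M with h | h
    · exact h
    · exfalso
      refine self_not_mem_Tr U hx ha ?_
      have h3 : n * (x * (n * n)) * n⁻¹ ∈ Z := NM_Tr U hx ha hn.1 h
      have h4 : bet x (n * (x * (n * n)) * n⁻¹) = bet x (x * (n * n)) := hconjbet n hn _ h
      have h5 : n * (x * (n * n)) * n⁻¹ = x * bet x n * (n * n) := by
        rw [bet, ← mul_assoc x x, hxx, one_mul]; group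
      rw [h5, bet_mul U hx ha (mul_mem (U.self_mem_CE hx ha) (hτ n hn).1.1) h2M.2,
        bet_self_mul U hx ha (hτ n hn).1, bet_mul U hx ha (U.self_mem_CE hx ha) h2M.2,
        bet_of_commute hx (Commute.refl x), one_mul, mul_eq_right] at h4
      -- so `n` lies in `M`, its square is a member
      have hnM : n ∈ M := hπker n hn (T.inj (by rw [hπι n hn, h4, T.map_zero]))
      have h6 := mul_mem h (inv_mem (ES_le_Tr U hx ha (Mx_sq U hx ha hb hba hnM)))
      rwa [mul_inv_cancel_right] at h6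
  have hπx : π x = 0 := hπM x hxM
  have hscal : ∀ g ∈ LF x a, ∀ n ∈ N, g * n * g⁻¹ ∈ N ∧
      ι (π (g * n * g⁻¹)) = g * ι (π n) * g⁻¹ := by
    intro g hg n hn
    have hgn : g * n * g⁻¹ ∈ N := mem_inf.2 ⟨mul_mem (mul_mem (LF_le_NM U hx ha hg) hn.1)
      (inv_mem (LF_le_NM U hx ha hg)), conj_CE U hx ha hg hn.2⟩
    exact ⟨hgn, by rw [hπι _ hgn, hπι n hn, bet_conj U hx ha hg, bet_conj U hx ha hg]⟩
  have hsurj : ∀ z, ∃ n ∈ N, π n = z := by
    obtain ⟨n₀, hn₀, hn₀C, hn₀M⟩ := hmove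
    have hn₀N : n₀ ∈ N := mem_inf.2 ⟨hn₀, hn₀C⟩
    have h0 : π n₀ ≠ 0 := fun h => hn₀M (hπker n₀ hn₀N h)
    intro z
    by_cases hz : z = 0
    · exact ⟨1, one_mem N, by rw [hz]; exact hπM 1 (one_mem M)⟩
    obtain ⟨g, hga, hgx, hcg⟩ := T.scal (z / π n₀) (div_ne_zero hz h0)
    obtain ⟨h1, h2⟩ := hscal g (mem_LF.2 ⟨hga, hgx⟩) n₀ hn₀N
    exact ⟨_, h1, T.inj (by rw [h2, hcg, div_mul_cancel₀ _ h0])⟩
  -- transitivity
  have hNb : ∀ h ∈ N, h • b = b → h = 1 ∨ h = x := by
    intro h hh hhb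
    have hvM : h * x * h⁻¹ ∈ M := NM_conj hh.1 hxM
    have hvb : (h * x * h⁻¹) • b = b := by
      rw [mul_smul, mul_smul, inv_smul_eq_iff.2 hhb.symm, hb, hhb]
    have hk : bet x (h * x * h⁻¹) = 1 := by
      set v := h * x * h⁻¹
      have e : x * bet x v = v * x * v⁻¹ := by simp only [bet]; rw [← mul_assoc x x, hxx, one_mul]
      refine U.ES_free hx ha hvM.2 ?_ hba
      refine MulAction.injective x ?_
      show x • (bet x v) • b = x • b
      rw [← mul_smul, e, mul_smul, mul_smul, inv_smul_eq_iff.2 hvb.symm, hb, hvb]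
    rcases hV _ (mem_Vx.2 ⟨hvM.1, hvb, (bet_eq_one hx).1 hk⟩) with h1 | h1
    · exact absurd (conj_eq_one_iff.1 h1) (invol_ne_one hx.invol)
    · exact hV h (mem_Vx.2 ⟨hh.2, hhb, mul_inv_eq_iff_eq_mul.1 h1⟩)
  have hcardV : Nat.card (Vx D x a b) = 2 := by
    rw [show Nat.card (Vx D x a b) = ((Vx D x a b : Subgroup G) : Set G).ncard from
      Nat.card_coe_set_eq _, show ((Vx D x a b : Subgroup G) : Set G) = {1, x} from ?_,
      Set.ncard_pair (invol_ne_one hx.invol).symm]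
    ext y
    refine ⟨fun hy => hV y hy, ?_⟩
    rintro (rfl | rfl)
    exacts [one_mem _, self_mem_Vx U hx ha hb]
  have hcardN : Nat.card N = q * (q * (q * 2)) := by
    let φ : N →* Multiplicative K :=
      MonoidHom.mk' (fun n => Multiplicative.ofAdd (π n)) fun n m => by
        rw [← ofAdd_add, ← hπadd n n.2 m m.2]; rfl
    rw [← φ.ker.card_mul_index, Subgroup.index_ker, MonoidHom.range_eq_top.2 ?_, Subgroup.card_top]
    · rw [mul_comm, show Nat.card (Multiplicative K) = q from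
        (Nat.card_congr Multiplicative.toAdd).trans (card_ES_le_two_lt U hx ha T)]
      congr 1
      rw [← hcardV, ← card_Mx U hx ha hb hba]
      exact Nat.card_congr
        { toFun := fun n => ⟨n.1.1, hπker _ n.1.2 (Multiplicative.ofAdd.injective n.2)⟩
          invFun := fun m => ⟨⟨m.1, hMN m.2⟩, by
            show Multiplicative.ofAdd (π m.1) = 1
            rw [hπM _ m.2]; rfl⟩
          left_inv := fun n => rfl
          right_inv := fun m => rfl }
    · intro z
      obtain ⟨n, hn, hnz⟩ := hsurj (Multiplicative.toAdd z)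
      exact ⟨⟨n, hn⟩, congrArg Multiplicative.ofAdd hnz⟩
  have htrans : ∀ p : Ω, p ≠ a → ∃ n ∈ N, n • b = p := by
    have hsub : MulAction.orbit N b ⊆ ({a}ᶜ : Set Ω) := by
      rintro _ ⟨n, rfl⟩ (h : (n : G) • b = a)
      exact hba (MulAction.injective (n : G) (h.trans n.2.2.1.symm))
    have hst : Nat.card (stabilizer N b) ≤ 2 := by
      rw [← hcardV]
      refine Nat.card_le_card_of_injective (fun h => (⟨(h : N).1, ?_⟩ : Vx D x a b))
        fun h h' e => Subtype.ext (Subtype.ext (congrArg Subtype.val e :))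
      rcases hNb _ h.1.2 h.2 with h1 | h1 <;> rw [h1]
      exacts [one_mem _, self_mem_Vx U hx ha hb]
    have hq := U.four_le
    have horb : q ^ 3 ≤ (MulAction.orbit N b).ncard := by
      have h := Subgroup.index_mul_card (stabilizer N b)
      rw [MulAction.index_stabilizer, hcardN] at h
      refine Nat.le_of_mul_le_mul_right ?_ two_pos
      rw [show q ^ 3 * 2 = q * (q * (q * 2)) by ring, ← h]
      exact Nat.mul_le_mul_left _ hst
    have hcompl : ({a}ᶜ : Set Ω).ncard = q ^ 3 := by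
      rw [Set.ncard_compl, Set.ncard_singleton, one_card_points U]; omega
    have heq := Set.eq_of_subset_of_ncard_le hsub (hcompl ▸ horb) (Set.toFinite _)
    intro p hp
    obtain ⟨n, hn⟩ : p ∈ MulAction.orbit N b := heq ▸ hp
    exact ⟨n, n.2, hn⟩
  -- the Sylow subgroup
  have hN2 : IsPGroup 2 N := fun n => by
    obtain ⟨j, hj⟩ := Mx_isPGroup U hx ha ⟨(n : G) * n, (hsq n n.2).1⟩
    refine ⟨j + 1, Subtype.ext ?_⟩
    rw [Subgroup.coe_pow, pow_succ', pow_mul, pow_two]
    exact congrArg Subtype.val hj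
  obtain ⟨S, hNS⟩ := hN2.exists_le_sylow
  have hSa := sylow_fix U hx ha S ((ES_le_Mx U hx ha).trans (hMN.trans hNS))
  -- its part in `C`
  have hSC : ∀ c ∈ (S : Subgroup G), c ∈ C → c ∈ N := by
    intro c hcS hcC
    obtain ⟨n, hn, hnb⟩ := htrans (c • b)
      (fun h => hba (MulAction.injective c (h.trans (hSa c hcS).symm)))
    set R₀ := (S : Subgroup G) ⊓ C ⊓ stabilizer G b with hR₀
    have hR₀p : IsPGroup 2 R₀ := S.2.to_le (inf_le_left.trans inf_le_left)
    have hxR : x ∈ R₀ := ⟨⟨hNS hxN, U.self_mem_CE hx ha⟩, hb⟩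
    haveI : Nontrivial R₀ := ⟨⟨⟨x, hxR⟩, 1, fun h => invol_ne_one hx.invol (congrArg Subtype.val h)⟩⟩
    haveI := hR₀p.center_nontrivial
    obtain ⟨z, hz1⟩ := exists_ne (1 : center R₀)
    have hzc : Commute ((z : R₀) : G) x :=
      (congrArg Subtype.val (mem_center_iff.1 z.2 ⟨x, hxR⟩)).symm
    have hzx : ((z : R₀) : G) = x := (hV _ (mem_Vx.2 ⟨(z : R₀).2.1.2, (z : R₀).2.2, hzc⟩)).resolve_left
      fun h => hz1 (Subtype.ext (Subtype.ext h))
    have hk : n⁻¹ * c ∈ R₀ := mem_inf.2 ⟨mem_inf.2 ⟨mul_mem (inv_mem (hNS hn)) hcS,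
        mul_mem (inv_mem (show n ∈ C from hn.2)) hcC⟩, by
      show (n⁻¹ * c) • b = b
      rw [mul_smul, ← hnb, inv_smul_smul]⟩
    have hkc : Commute (n⁻¹ * c) x := by
      have h : (n⁻¹ * c) * ((z : R₀) : G) = ((z : R₀) : G) * (n⁻¹ * c) :=
        congrArg Subtype.val (mem_center_iff.1 z.2 ⟨_, hk⟩)
      rwa [hzx] at h
    have hkN : n⁻¹ * c ∈ N := hMN (Vx_le_Mx U hx ha (b := b) (mem_Vx.2 ⟨hk.1.2, hk.2, hkc⟩))
    have := mul_mem hn hkN
    rwa [mul_inv_cancel_left] at this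
  have hbadN : ∀ v ∈ (S : Subgroup G), Bad G Ω v → v * x⁻¹ ∈ Z := by
    intro v hvS hv
    have hvN : v ∈ N := hSC v hvS (bad_mem U hx ha hv (hSa v hvS))
    obtain ⟨p, hpa, hvp⟩ := U.exists_other hv hvN.2.1
    obtain ⟨n, hn, hnb⟩ := htrans p hpa
    have hwb : (n⁻¹ * v * n) • b = b := by
      rw [mul_smul, mul_smul, hnb, hvp, ← hnb, inv_smul_smul]
    rcases hNb _ (mul_mem (mul_mem (inv_mem hn) hvN) hn) hwb with h | h
    · exfalso
      refine invol_ne_one hv.invol ?_
      calc v = n * (n⁻¹ * v * n) * n⁻¹ := by group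
        _ = 1 := by rw [h]; group
    · have e : v = x * bet x n := by
        rw [bet, ← mul_assoc x x, hxx, one_mul, ← h]; group
      rw [e]
      exact NM_Tr U hx ha (le_NM U hx ha hxM) (hτ n hn)
  -- the point stabiliser
  set R := (S : Subgroup G) ⊓ stabilizer G b with hR
  have hRA : R ≤ LF x a := by
    intro g hg
    have hga := hSa g hg.1
    refine mem_LF.2 ⟨hga, ?_⟩
    have hv : g * x * g⁻¹ ∈ N := hSC _ (mul_mem (mul_mem hg.1 (hNS hxN)) (inv_mem hg.1))
      (conj_CE_stab U hx ha hga (U.self_mem_CE hx ha))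
    have hgb : g • b = b := hg.2
    rcases hNb _ hv (by rw [mul_smul, mul_smul, inv_smul_eq_iff.2 hgb.symm, hb, hgb]) with h | h
    · exact absurd (conj_eq_one_iff.1 h) (invol_ne_one hx.invol)
    · exact mul_inv_eq_iff_eq_mul.1 h
  have hRcomm := comm_of_torus U hx ha T hRA (S.2.to_le inf_le_left) fun g hg hgC h hh => by
    rcases hV g (mem_Vx.2 ⟨hgC, hg.2, (mem_LF.1 (hRA hg)).2⟩) with rfl | rfl
    · exact Commute.one_left h
    · exact (mem_LF.1 (hRA hh)).2.symm
  -- the invariant complement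
  obtain ⟨Q, hZQ, hQN, hxQ, hQor, hQinv⟩ := exists_complement hZN
    (fun n hn z hz => NM_Tr U hx ha hn.1 hz) hsq hxN (self_not_mem_Tr U hx ha) π hπadd
    (fun z hz => hπM z hz.1) hπx
    (fun n hn h0 => by
      have hnM := hπker n hn h0
      refine (Tr_of_bet U hx ha hnM).imp id fun h => ?_
      have h1 := NM_Tr U hx ha (le_NM U hx ha hxM) h
      rwa [← mul_assoc x x, hxx, one_mul, invol_inv hx.invol] at h1)
    hsurj (LF x a) (fun g hg n hn => (hscal g hg n hn).1)
    (fun g hg z hz => NM_Tr U hx ha (LF_le_NM U hx ha hg) hz)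
    (fun g hg => by
      rw [(mem_LF.1 hg).2.eq, mul_inv_cancel_right, mul_inv_cancel]; exact one_mem _)
    (fun g hg hfix n hn => by
      have hgC := mem_CE_of_fix U hx ha T (mem_LF.1 hg).1 fun z => by
        obtain ⟨m, hm, rfl⟩ := hsurj z
        rw [← (hscal g hg m hm).2, hfix m hm]
      rcases cent_one U hx ha hgC (mem_LF.1 hg).2 with h | h
      · rw [(hEcomm n hn.2 g h).symm.eq, mul_inv_cancel_right, mul_inv_cancel]
        exact one_mem _
      · obtain ⟨e, he, rfl⟩ : ∃ e ∈ E, g = x * e :=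
          ⟨x * g, h, by rw [← mul_assoc, hxx, one_mul]⟩
        have e1 : x * e * n * (x * e)⁻¹ * n⁻¹ = bet x n := by
          rw [mul_assoc x e n, ← (hEcomm n hn.2 e he).eq, mul_inv_rev, invol_inv hx.invol, bet]
          group
        rw [e1]
        exact hτ n hn)
    (fun g hg => by
      obtain ⟨c, σ, hcs⟩ := T.semi g (mem_LF.1 hg).1 (mem_LF.1 hg).2
      exact ⟨c, σ, fun n hn => T.inj (by rw [(hscal g hg n hn).2, hcs])⟩)
    (fun c hc => by
      obtain ⟨g, hga, hgx, hcg⟩ := T.scal c hc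
      exact ⟨g, mem_LF.2 ⟨hga, hgx⟩, fun n hn => T.inj (by
        rw [(hscal g (mem_LF.2 ⟨hga, hgx⟩) n hn).2, hcg])⟩)
    (exists_scalar U hx ha T)
  have hxS : x ∈ (S : Subgroup G) := hNS hxN
  have hxR : x ∈ R := mem_inf.2 ⟨hxS, hb⟩
  have hfacQ : ∀ s ∈ (S : Subgroup G), ∃ n ∈ Q, ∃ r ∈ R, s = n * r := by
    intro s hs
    obtain ⟨n, hn, hnb⟩ := htrans (s • b)
      (fun h => hba (MulAction.injective s (h.trans (hSa s hs).symm)))
    have hr : n⁻¹ * s ∈ R := mem_inf.2 ⟨mul_mem (inv_mem (hNS hn)) hs, by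
      show (n⁻¹ * s) • b = b
      rw [mul_smul, ← hnb, inv_smul_smul]⟩
    rcases hQor n hn with h | h
    · exact ⟨n, h, _, hr, (mul_inv_cancel_left n s).symm⟩
    · exact ⟨n * x, h, x * (n⁻¹ * s), mul_mem hxR hr, by
        rw [← mul_assoc, mul_assoc n x x, hxx, mul_one, mul_inv_cancel_left]⟩
  have hcomm : ∀ s ∈ (S : Subgroup G), ∀ t ∈ (S : Subgroup G), s * t * s⁻¹ * t⁻¹ ∈ Q := by
    intro s hs t ht
    obtain ⟨n, hn, r, hr, rfl⟩ := hfacQ s hs
    obtain ⟨m, hm, r', hr', rfl⟩ := hfacQ t ht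
    have e : n * r * (m * r') * (n * r)⁻¹ * (m * r')⁻¹ =
        n * (r * m * r⁻¹) * (r * r' * r⁻¹ * n⁻¹ * (r * r' * r⁻¹)⁻¹) *
          (r * r' * r⁻¹ * r'⁻¹) * m⁻¹ := by group
    rw [e, (hRcomm r hr r' hr').eq, mul_inv_cancel_right r' r, mul_inv_cancel, mul_one]
    exact mul_mem (mul_mem (mul_mem hn (hQinv r (hRA hr) m hm))
      (hQinv r' (hRA hr') _ (inv_mem hn))) (inv_mem hm)
  refine false_of_quot U.min S (hQN.trans hNS) hcomm (fun d hdS hdD => ?_) hxS hx hxQ
    fun v hv hvb => hZQ (hbadN v hv hvb)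
  exact hZQ (ES_le_Tr U hx ha (mem_ES_of_memAt U hx ha ⟨hdD, hSa d hdS⟩))

end Cfsg.Agent.Lib.Crit5.KillOne
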