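import Cfsg.Agent.Lib.Crit5.Facts
import Cfsg.Agent.Lib.Crit5.KillOne.Regular
import Cfsg.Agent.Lib.Crit5.KillOne.Order8
import Cfsg.Agent.Lib.Crit5.KillOne.Linear8
import Cfsg.Agent.Lib.TwoTimesPSL.FaithfulEven

/-!
# The single fixed point criterion, type one with `r = 1`: no translations of the bad coset

Then the normaliser of `Mx` in the point stabiliser induces on the bad coset a translation-free
transitive semilinear group, so `q = 8` and the group has order `168`; a Sylow subgroup modulo `Tr`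
is a central extension of a group of order eight with involutions lifting to involutions, and this
gives a transfer.
Owner: helper67.
-/

set_option autoImplicit false
set_option linter.style.haveILetI false
set_option linter.unusedSectionVars false

namespace Cfsg.Agent.Lib.Crit5.KillOne

open MulAction Subgroup Cfsg.Agent.Lib.Involutions.Basic
open Cfsg.Agent.Lib.Crit8 (Action Pre Bad memAt memSwap)

universe u

variable {G Ω : Type u} [Group G] [MulAction G Ω] [Finite G] {D : Set G} {q : ℕ}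
  (U : Uni D Ω q 1) {x : G} {a : Ω} (hx : Bad G Ω x) (ha : x • a = a)

include U hx ha

/-- The translation-free case is impossible. -/
theorem eight_false {K : Type*} [Field K] [Finite K] [CharP K 2] {ι : K → G}
    (T : Torus D x a K ι)
    (hfree : ∀ n, n ∈ NM U hx ha → n ∈ CE D x a → n ∈ Mx U hx ha) : False := by
  classical
  obtain ⟨b, hba, hb⟩ := U.exists_other hx ha
  haveI := U.finite_pts
  haveI : Fact (Nat.Prime 2) := ⟨Nat.prime_two⟩
  have hxx := invol_mul_self hx.invol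
  set M := Mx U hx ha
  set H := NM U hx ha
  have hMH : M ≤ H := le_NM U hx ha
  have hxM := self_mem_Mx U hx ha
  have hW : ∀ z : K, ∃ w, Bad G Ω w ∧ w ∈ M ∧ bet x w = ι z := fun z =>
    exists_bad_bet U hx ha (iota_mem U hx ha T z)
  choose W hWb hWM hWd using hW
  set pos : G → K := fun w => Function.invFun ι (bet x w)
  have hpos : ∀ w ∈ M, ι (pos w) = bet x w := fun w hw =>
    Function.invFun_eq (exists_label U hx ha T hw.2)
  have hposW : ∀ z, pos (W z) = z := fun z => T.inj ((hpos _ (hWM z)).trans (hWd z))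
  have hbadM : ∀ g ∈ H, ∀ w, Bad G Ω w → w ∈ M → Bad G Ω (g * w * g⁻¹) ∧ g * w * g⁻¹ ∈ M :=
    fun g hg w hw hwM => ⟨bad_conj hw g, NM_conj hg hwM⟩
  set act : G → K → K := fun g z => pos (g * W z * g⁻¹)
  -- products
  have hpair : ∀ w w', Bad G Ω w → w ∈ M → Bad G Ω w' → w' ∈ M →
      ι (pos w + pos w') = w * w' * (w * w') := by
    intro w w' hw hwM hw' hwM'
    rw [T.map_add, hpos w hwM, hpos w' hwM', Tr_sq U hx ha (bad_mul_mem_Tr U hx ha hw hwM hw' hwM'),
      bet_mul U hx ha hwM.1 hwM'.2]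
  have hwd : ∀ g ∈ H, ∀ w, Bad G Ω w → w ∈ M → pos (g * w * g⁻¹) = act g (pos w) := by
    intro g hg w hw hwM
    obtain ⟨hb₁, hM₁⟩ := hbadM g hg w hw hwM
    obtain ⟨hb₂, hM₂⟩ := hbadM g hg (W (pos w)) (hWb _) (hWM _)
    refine CharTwo.add_eq_zero.1 (T.inj ?_)
    rw [hpair _ _ hb₁ hM₁ hb₂ hM₂, T.map_zero]
    have h := hpair _ _ hw hwM (hWb (pos w)) (hWM _)
    rw [hposW, CharTwo.add_self_eq_zero, T.map_zero] at h
    calc g * w * g⁻¹ * (g * W (pos w) * g⁻¹) * (g * w * g⁻¹ * (g * W (pos w) * g⁻¹))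
        = g * (w * W (pos w) * (w * W (pos w))) * g⁻¹ := by group
      _ = 1 := by rw [← h]; group
  have hlin : ∀ g ∈ H, ∀ y z, ι (act g y + act g z) = g * ι (y + z) * g⁻¹ := by
    intro g hg y z
    obtain ⟨hb₁, hM₁⟩ := hbadM g hg (W y) (hWb y) (hWM y)
    obtain ⟨hb₂, hM₂⟩ := hbadM g hg (W z) (hWb z) (hWM z)
    have h := hpair _ _ (hWb y) (hWM y) (hWb z) (hWM z)
    rw [hposW, hposW] at h
    rw [h, hpair _ _ hb₁ hM₁ hb₂ hM₂]
    group
  have hmul : ∀ g ∈ H, ∀ h ∈ H, ∀ z, act (g * h) z = act g (act h z) := by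
    intro g hg h hh z
    obtain ⟨hb₁, hM₁⟩ := hbadM h hh (W z) (hWb z) (hWM z)
    rw [← hwd g hg _ hb₁ hM₁]
    show pos (g * h * W z * (g * h)⁻¹) = pos (g * (h * W z * h⁻¹) * g⁻¹)
    congr 1
    group
  have hone : ∀ z, act 1 z = z := fun z => by
    show pos (1 * W z * 1⁻¹) = z
    rw [one_mul, inv_one, mul_one, hposW]
  let φ : H →* Equiv.Perm K := MonoidHom.mk' (fun g =>
    { toFun := act g
      invFun := act (g : G)⁻¹
      left_inv := fun z => by rw [← hmul _ (inv_mem g.2) _ g.2, inv_mul_cancel, hone]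
      right_inv := fun z => by rw [← hmul _ g.2 _ (inv_mem g.2), mul_inv_cancel, hone] })
    fun g h => Equiv.ext fun z => hmul g g.2 h h.2 z
  have hφ : ∀ (g : H) z, φ g z = act g z := fun g z => rfl
  have hMact : ∀ s ∈ M, ∀ z, act s z = z := by
    intro s hs z
    refine T.inj ?_
    show ι (pos (s * W z * s⁻¹)) = ι z
    rw [hpos _ (NM_conj (hMH hs) (hWM z)), ← hWd z]
    have h := Mx_comm U hx ha hb hba hs (hWM z)
    have e : s * W z * s⁻¹ = W z * (s * W z * s⁻¹ * (W z)⁻¹) := by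
      rw [((U.mem_CE hx ha).1 (hWM z).1).2 _ h |>.eq, inv_mul_cancel_right]
    rw [e, bet_mul_ES U hx ha (hWM z).1 h]
  have hkerM : ∀ g ∈ H, (∀ z, act g z + act g 0 = z) → g ∈ M := by
    intro g hg h
    refine hfree g hg (mem_CE_of_fix U hx ha T hg.1 fun z => ?_)
    have h1 := hlin g hg z 0
    rw [h, add_zero] at h1
    exact h1.symm
  have hpos0 : pos x = 0 := T.inj (by
    rw [hpos x hxM, T.map_zero]; exact bet_of_commute hx (Commute.refl x))
  have hact0 : ∀ g ∈ H, pos (g * x * g⁻¹) = act g 0 := fun g hg => by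
    rw [hwd g hg x hx hxM, hpos0]
  set Γ := φ.range
  have hA : TwoTimesPSL.FaithfulEven.Aff Γ := by
    refine ⟨?_, ?_, ?_, ?_, ?_⟩
    · rintro _ ⟨g, rfl⟩ y z
      simp only [hφ]
      refine T.inj ?_
      rw [hlin g g.2, hlin g g.2, add_zero]
    · rintro _ ⟨g, rfl⟩ h
      simp only [hφ] at h
      exact Equiv.ext fun z => hMact g (hkerM g g.2 h) z
    · rintro _ ⟨g, rfl⟩ h0
      simp only [hφ] at h0
      have hxg : Bad G Ω ((g : G) * x * (g : G)⁻¹) ∧ (g : G) * x * (g : G)⁻¹ ∈ M :=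
        hbadM g g.2 x hx hxM
      have hb1 : bet x ((g : G) * x * (g : G)⁻¹) = 1 := by
        rw [← hpos _ hxg.2, hact0 g g.2, h0, T.map_zero]
      have he : bet x g ∈ ES D x a := by
        rcases cent_one U hx ha hxg.2.1 ((bet_eq_one hx).1 hb1) with h | h
        · rcases (U.mem_ES hx ha).1 h with h' | h'
          · exact absurd h' (invol_ne_one hxg.1.invol)
          · exact absurd hxg.1 (U.pre.not_bad_of_mem h'.1.1)
        · exact h
      obtain ⟨s, -, hsM, hse⟩ := exists_bad_bet U hx ha he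
      have hconj : s * x * s⁻¹ = (g : G) * x * (g : G)⁻¹ := mul_left_cancel (a := x) hse
      have hh : s⁻¹ * (g : G) ∈ LF x a := by
        refine mem_LF.2 ⟨?_, ?_⟩
        · rw [mul_smul, show (g : G) • a = a from g.2.1, inv_smul_eq_iff.2 hsM.1.1.symm]
        · refine mul_inv_eq_iff_eq_mul.1 ?_
          rw [show s⁻¹ * (g : G) * x * (s⁻¹ * (g : G))⁻¹ = s⁻¹ * ((g : G) * x * (g : G)⁻¹) * s by
            group, ← hconj]
          group
      obtain ⟨c, σ, hcs⟩ := T.semi _ (mem_LF.1 hh).1 (mem_LF.1 hh).2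
      have hact : ∀ z, act g z = c * σ z := by
        intro z
        refine T.inj ?_
        rw [← add_zero (act g z), ← h0, hlin g g.2, add_zero, ← hcs]
        have hc : Commute s (s⁻¹ * (g : G) * ι z * (s⁻¹ * (g : G))⁻¹) :=
          ((U.mem_CE hx ha).1 hsM.1).2 _ (hcs z ▸ iota_mem U hx ha T _)
        calc (g : G) * ι z * (g : G)⁻¹
            = s * (s⁻¹ * (g : G) * ι z * (s⁻¹ * (g : G))⁻¹) * s⁻¹ := by group
          _ = _ := by rw [hc.eq, mul_inv_cancel_right]
      refine ⟨σ, fun z => ?_⟩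
      simp only [hφ, hact, map_one, mul_one]
    · intro c hc
      obtain ⟨g, hga, hgx, hcg⟩ := T.scal c hc
      have hgH : g ∈ H := LF_le_NM U hx ha (mem_LF.2 ⟨hga, hgx⟩)
      refine ⟨φ ⟨g, hgH⟩, ⟨_, rfl⟩, fun z => ?_⟩
      rw [hφ]
      have h0 : act g 0 = 0 := by rw [← hact0 g hgH, hgx.eq, mul_inv_cancel_right, hpos0]
      refine T.inj ?_
      rw [← add_zero (act g z), ← h0, hlin g hgH, add_zero, hcg]
    · intro v
      obtain ⟨c, hc0, hc1⟩ := exists_scalar U hx ha T
      have hE := U.ES_eq hx ha (hWb 1) (hWM 1).1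
      have hmem : ∀ z : K, z ≠ 0 → ι z ∈ memCent D (W 1) a := fun z hz =>
        ((U.mem_ES (hWb 1) (hWM 1).1.1).1 (hE.symm ▸ iota_mem U hx ha T z)).resolve_left
          fun h => hz (T.inj (h.trans T.map_zero.symm))
      have h₁ := hmem 1 one_ne_zero
      have h₂ := hmem c hc0
      obtain ⟨g, hgw, hgd⟩ := U.pre.loc_transitive (hWb 1) h₁.1.1 h₁.2 h₂.1.1 h₂.2
      have hga : g • a = a := U.pre.eq_of_fix h₂.1.1 (by
        rw [← hgd, mul_smul, mul_smul, inv_smul_smul, h₁.1.2]) h₂.1.2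
      have hgH : g ∈ H := LF_bad_le_NM U hx ha (hWb 1) (hWM 1) (mem_LF.2 ⟨hga, hgw⟩)
      have h11 : act g 1 = 1 := by
        show pos (g * W 1 * g⁻¹) = 1
        rw [hgw.eq, mul_inv_cancel_right, hposW]
      have h10 : act g 0 = 1 + c := by
        have h := hlin g hgH 1 0
        rw [h11, add_zero, hgd] at h
        rw [← T.inj h, ← add_assoc, CharTwo.add_self_eq_zero, zero_add]
      by_cases hv : v = 0
      · exact ⟨1, one_mem _, by rw [hv]; rfl⟩
      have hne : (1 : K) + c ≠ 0 := fun h => hc1 (CharTwo.add_eq_zero.1 h).symm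
      obtain ⟨k, hka, hkx, hkc⟩ := T.scal (v / (1 + c)) (div_ne_zero hv hne)
      have hkH : k ∈ H := LF_le_NM U hx ha (mem_LF.2 ⟨hka, hkx⟩)
      refine ⟨φ ⟨k * g, mul_mem hkH hgH⟩, ⟨_, rfl⟩, ?_⟩
      rw [hφ, hmul k hkH g hgH, h10]
      have h0 : act k 0 = 0 := by rw [← hact0 k hkH, hkx.eq, mul_inv_cancel_right, hpos0]
      refine T.inj ?_
      rw [← add_zero (act k _), ← h0, hlin k hkH, add_zero, hkc, div_mul_cancel₀ v hne]
  obtain ⟨hq8, hΓ⟩ := hA.main (by rw [card_ES_le_two_lt U hx ha T]; have := U.four_le; omega)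
  -- the Sylow subgroup
  obtain ⟨S, hMS⟩ := (Mx_isPGroup U hx ha).exists_le_sylow
  have hSa := sylow_fix U hx ha S ((ES_le_Mx U hx ha).trans hMS)
  have hSC : ∀ c ∈ (S : Subgroup G), c ∈ CE D x a → c ∈ M := by
    set P₀ := (S : Subgroup G) ⊓ CE D x a
    by_contra hcon
    have hlt : M < P₀ := lt_of_le_of_ne (le_inf hMS fun _ h => h.1) fun h =>
      hcon fun c hc hc' => by rw [h]; exact ⟨hc, hc'⟩
    haveI : Group.IsNilpotent P₀ := (S.2.to_le inf_le_left).isNilpotent
    obtain ⟨s, hs, hsM⟩ :=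
      SetLike.exists_of_lt (Involutions.StronglyEmbedded.lt_inf_normalizer hlt)
    exact hsM (hfree s (mem_inf.2 ⟨hs.1.2.1, hs.2⟩) hs.1.2)
  have hSH : (S : Subgroup G) ≤ H := by
    have key : ∀ s ∈ (S : Subgroup G), ∀ m ∈ M, s * m * s⁻¹ ∈ M := fun s hs m hm =>
      hSC _ (mul_mem (mul_mem hs (hMS hm)) (inv_mem hs)) (conj_CE_stab U hx ha (hSa s hs) hm.1)
    refine fun s hs => mem_inf.2 ⟨hSa s hs, mem_normalizer_iff.2 fun m => ⟨key s hs m, fun h => ?_⟩⟩
    simpa [mul_assoc] using key s⁻¹ (inv_mem hs) _ h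
  set S' : Subgroup G := S.toSubgroup with hS'
  set ψ : S' →* Equiv.Perm K := φ.comp (Subgroup.inclusion hSH) with hψdef
  have hψ : ∀ (s : S') z, ψ s z = act s z := fun s z => rfl
  have hker : ∀ s : S', ψ s = 1 ↔ (s : G) ∈ M := fun s =>
    ⟨fun h => hkerM s (hSH s.2) fun z => by
      rw [← hψ s z, ← hψ s 0, h]; simp,
    fun h => Equiv.ext fun z => (hψ s z).trans (hMact s h z)⟩
  have hP : Nat.card ψ.range = 8 := by
    have e1 : Nat.card ψ.range * Nat.card M = Nat.card S' := by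
      rw [← ψ.ker.card_mul_index, Subgroup.index_ker, mul_comm]
      congr 1
      exact Nat.card_congr
        { toFun := fun m => ⟨⟨m.1, hMS m.2⟩, (hker _).2 m.2⟩
          invFun := fun s => ⟨s.1.1, (hker _).1 s.2⟩
          left_inv := fun _ => rfl
          right_inv := fun _ => rfl }
    have e2 : Nat.card Γ * Nat.card M = Nat.card H := by
      rw [← φ.ker.card_mul_index, Subgroup.index_ker, mul_comm]
      congr 1
      exact Nat.card_congr
        { toFun := fun m => ⟨⟨m.1, hMH m.2⟩, Equiv.ext fun z => hMact m.1 m.2 z⟩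
          invFun := fun g => ⟨g.1.1, hkerM g.1 g.1.2 fun z => by
            rw [← hφ g.1 z, ← hφ g.1 0, show φ g.1 = 1 from g.2]; simp⟩
          left_inv := fun _ => rfl
          right_inv := fun _ => rfl }
    have hle : ψ.range ≤ Γ := by
      rintro _ ⟨s, rfl⟩
      exact ⟨Subgroup.inclusion hSH s, rfl⟩
    obtain ⟨k, hk⟩ := Subgroup.card_dvd_of_le hle
    have hkodd : ¬ 2 ∣ k := fun h => by
      refine S.not_dvd_index (h.trans ?_)
      have h1 := Subgroup.index_mul_card S'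
      have h2 := Subgroup.index_mul_card H
      refine ⟨H.index, Nat.eq_of_mul_eq_mul_right (Nat.card_pos : 0 < Nat.card S') ?_⟩
      rw [h1, ← h2, ← e2, hk, ← e1]
      ring
    have hp2 : IsPGroup 2 ψ.range :=
      (show IsPGroup 2 S' from S.2).of_surjective ψ.rangeRestrict ψ.rangeRestrict_surjective
    obtain ⟨j, hj⟩ := IsPGroup.iff_card.1 hp2
    rw [hΓ, hj] at hk
    have hj3 : j ≤ 7 := by
      by_contra h
      have h1 : 2 ^ 8 ≤ 2 ^ j := Nat.pow_le_pow_right two_pos (by omega)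
      have h2 := Nat.le_of_dvd (by norm_num) (Dvd.intro k hk.symm : 2 ^ j ∣ 168)
      omega
    rw [hj]
    interval_cases j <;> omega
  have hfix : ∀ (s : S') (z : K), act s z = z → ψ s = 1 := by
    intro s z hz
    haveI : IsPretransitive Γ K := ⟨fun y z => by
      obtain ⟨g, hg, hg0⟩ := hA.trans y
      obtain ⟨h, hh, hh0⟩ := hA.trans z
      exact ⟨(⟨h, hh⟩ : Γ) * (⟨g, hg⟩ : Γ)⁻¹, by
        show h (g.symm y) = z
        rw [← hh0]; congr 1; rw [Equiv.symm_apply_eq, hg0]⟩⟩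
    have hst : Nat.card (stabilizer Γ z) = 21 := by
      have h := Subgroup.index_mul_card (stabilizer Γ z)
      rw [index_stabilizer_of_transitive Γ z, hq8, hΓ] at h
      omega
    have hmem : ψ s ∈ Γ := ⟨Subgroup.inclusion hSH s, rfl⟩
    have d1 : orderOf (ψ s) ∣ 21 := by
      have h := orderOf_dvd_natCard (⟨⟨ψ s, hmem⟩, hz⟩ : stabilizer Γ z)
      rwa [hst, ← Subgroup.orderOf_coe, ← Subgroup.orderOf_coe] at h
    have d2 : orderOf (ψ s) ∣ 8 := by
      have h := orderOf_dvd_natCard (⟨ψ s, s, rfl⟩ : ψ.range)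
      rwa [hP, ← Subgroup.orderOf_coe] at h
    exact orderOf_eq_one_iff.1 (Nat.eq_one_of_dvd_coprimes (by norm_num) d1 d2)
  -- modulo `Tr`
  set Z := Tr U hx ha
  haveI : (Z.subgroupOf S').Normal := ⟨fun z hz g => NM_Tr U hx ha (hSH g.2) hz⟩
  have hZker : Z.subgroupOf S' ≤ ψ.ker := fun z hz => (hker z).2 (Tr_le U hx ha hz)
  let f : S' ⧸ Z.subgroupOf S' →* ψ.range :=
    QuotientGroup.lift _ ψ.rangeRestrict fun z hz => by
      rw [MonoidHom.mem_ker]; exact Subtype.ext (hZker hz)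
  set π := QuotientGroup.mk' (Z.subgroupOf S')
  have hπ : ∀ s : S', π s = 1 ↔ (s : G) ∈ Z := fun s => QuotientGroup.eq_one_iff s
  have hf : ∀ s : S', ((f (π s) : ψ.range) : Equiv.Perm K) = ψ s := fun s => rfl
  have hsurjπ := QuotientGroup.mk'_surjective (Z.subgroupOf S')
  have hxS : x ∈ S' := hMS hxM
  have hbadx : ∀ w, Bad G Ω w → w ∈ M → w * x⁻¹ ∈ Z := fun w hw hwM => by
    have h := NM_Tr U hx ha (hMH hxM) (self_mul_mem_Tr U hx ha hw hwM)
    rwa [← mul_assoc x x w, hxx, one_mul] at h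
  obtain ⟨Q₀, hQ₀, hxQ₀⟩ := exists_quot_eight f (fun y => by
      obtain ⟨⟨_, s, rfl⟩, rfl⟩ : ∃ z, z = y := ⟨y, rfl⟩
      exact ⟨π s, Subtype.ext (hf s)⟩)
    (x := π ⟨x, hxS⟩)
    (fun w => by
      obtain ⟨s, rfl⟩ := hsurjπ w
      constructor
      · intro h
        have hsM : (s : G) ∈ M := (hker s).1 ((hf s).symm.trans (congrArg Subtype.val h))
        rcases Tr_of_bet U hx ha hsM with h' | h'
        · exact Or.inl ((hπ s).2 h')
        · refine Or.inr ?_
          rw [← mul_inv_eq_one, ← map_inv, ← map_mul, hπ]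
          show (s : G) * x⁻¹ ∈ Z
          have h2 := NM_Tr U hx ha (hMH hxM) h'
          rwa [← mul_assoc x x, hxx, one_mul] at h2
      · rintro (h | h) <;> rw [h]
        · exact map_one f
        · exact Subtype.ext ((hf _).trans ((hker ⟨x, hxS⟩).2 hxM)))
    (fun h => self_not_mem_Tr U hx ha ((hπ ⟨x, hxS⟩).1 h))
    (by
      rw [← map_mul, hπ]
      show x * x ∈ Z
      rw [hxx]; exact one_mem Z)
    (fun w => by
      obtain ⟨s, rfl⟩ := hsurjπ w
      refine (mul_inv_eq_iff_eq_mul (a := π s * π ⟨x, hxS⟩)).1 ?_ |>.symm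
      rw [← mul_inv_eq_one, ← map_inv, ← map_inv, ← map_mul, ← map_mul, ← map_mul, hπ]
      exact hbadx _ (bad_conj hx _) (NM_conj (hSH s.2) hxM))
    (fun w h1 h2 => by
      obtain ⟨s, rfl⟩ := hsurjπ w
      rw [← map_mul, hπ]
      have hssM : ((s * s : S') : G) ∈ M := (hker _).1 (by
        rw [← hf, map_mul, map_mul, h2]; rfl)
      rcases Tr_of_bet U hx ha hssM with h | h
      · exact h
      · exfalso
        refine h1 (Subtype.ext ((hf s).trans ?_))
        set w := ((s * s : S') : G)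
        have hwb : Bad G Ω w := by
          have h3 := h.2
          rwa [← mul_assoc, hxx, one_mul] at h3
        have h4 := hwd s (hSH s.2) w hwb hssM
        have e : (s : G) * w * (s : G)⁻¹ = w := by
          show (s : G) * ((s : G) * s) * (s : G)⁻¹ = (s : G) * s
          group
        rw [e] at h4
        exact hfix s (pos w) h4.symm)
    hP
    (fun hcomm y => by
      by_contra hy
      have hy' : ∃ g : ψ.range, g * g ≠ 1 ∧ g * g * (g * g) = 1 := by
        have h8 : (y * y) * (y * y) * ((y * y) * (y * y)) = 1 := by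
          have := pow_card_eq_one' (x := y)
          rw [hP] at this
          rw [← this]; simp [pow_succ, mul_assoc]
        by_cases h4 : y * y * (y * y) = 1
        · exact ⟨y, hy, h4⟩
        · exact ⟨y * y, h4, h8⟩
      obtain ⟨g, hg2, hg4⟩ := hy'
      have hΓmem : ∀ g : ψ.range, (g : Equiv.Perm K) ∈ Γ := by
        rintro ⟨_, s, rfl⟩
        exact ⟨Subgroup.inclusion hSH s, rfl⟩
      let L : ψ.range → K →+ K := fun g =>
        AddMonoidHom.mk' (fun z => (g : Equiv.Perm K) z + (g : Equiv.Perm K) 0) fun y z => by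
          rw [hA.aff _ (hΓmem g) y z,
            show (g : Equiv.Perm K) y + (g : Equiv.Perm K) 0 + ((g : Equiv.Perm K) z + (g : Equiv.Perm K) 0) =
              (g : Equiv.Perm K) y + (g : Equiv.Perm K) z +
                ((g : Equiv.Perm K) 0 + (g : Equiv.Perm K) 0) by ring,
            CharTwo.add_self_eq_zero, add_zero]
      have hLmul : ∀ g h z, L (g * h) z = L g (L h z) := fun g h z => by
        show (g : Equiv.Perm K) ((h : Equiv.Perm K) z) + (g : Equiv.Perm K) ((h : Equiv.Perm K) 0) =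
          (g : Equiv.Perm K) ((h : Equiv.Perm K) z + (h : Equiv.Perm K) 0) + (g : Equiv.Perm K) 0
        rw [hA.aff _ (hΓmem g)]
      have hL1 : ∀ z, L 1 z = z := fun z => by
        show z + 0 = z
        rw [add_zero]
      obtain ⟨v, hv⟩ : ∃ v, L g (L g v) ≠ v := by
        by_contra hall
        push Not at hall
        refine hg2 (Subtype.ext (hA.faithful _ (hΓmem (g * g)) fun z => ?_))
        show L (g * g) z = z
        rw [hLmul, hall]
      have hle := card_le_four_of_commute hq8 (fun z => CharTwo.add_self_eq_zero z) (L g)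
        (fun z => by rw [← hLmul, ← hLmul, ← hLmul, show g * g * g * g = 1 by
          rw [mul_assoc (g * g), hg4], hL1]) hv L
        (fun i z z' h => by
          have h' := congrArg (L i⁻¹) h
          rwa [← hLmul, ← hLmul, inv_mul_cancel, hL1, hL1] at h')
        (fun i z => by rw [← hLmul, hcomm i g, hLmul])
        (fun i j h => by
          refine (inv_mul_eq_one (a := j) (b := i)).1 ?_ |>.symm
          refine Subtype.ext (hA.faithful _ (hΓmem (j⁻¹ * i)) fun z => ?_)
          show L (j⁻¹ * i) z = z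
          rw [hLmul, h, ← hLmul, inv_mul_cancel, hL1])
      omega)
  refine false_of_quot U.min S (Q := (Q₀.comap π).map S'.subtype) (map_subtype_le _)
    (fun s hs t ht => ⟨⟨s, hs⟩ * ⟨t, ht⟩ * ⟨s, hs⟩⁻¹ * ⟨t, ht⟩⁻¹, by
      show π _ ∈ Q₀
      rw [map_mul, map_mul, map_mul, map_inv, map_inv]
      exact hQ₀ _ _, rfl⟩)
    (fun d hdS hdD => ⟨⟨d, hdS⟩, by
      show π _ ∈ Q₀
      rw [(hπ ⟨d, hdS⟩).2 (ES_le_Tr U hx ha (mem_ES_of_memAt U hx ha ⟨hdD, hSa d hdS⟩))]
      exact one_mem Q₀, rfl⟩)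
    hxS hx ?_ fun v hv hvb => ⟨⟨v * x⁻¹, mul_mem hv (inv_mem hxS)⟩, by
      show π _ ∈ Q₀
      rw [(hπ ⟨v * x⁻¹, mul_mem hv (inv_mem hxS)⟩).2
        (hbadx v hvb (hSC v hv (bad_mem U hx ha hvb (hSa v hv))))]
      exact one_mem Q₀, rfl⟩
  rintro ⟨⟨y, hy⟩, hyQ, rfl : y = x⟩
  exact hxQ₀ hyQ

end Cfsg.Agent.Lib.Crit5.KillOne
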