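import Cfsg.Agent.Lib.Crit5.KillOne.Basic
import Cfsg.Agent.Lib.Crit5.Shape.Torus

/-!
# The single fixed point criterion, section C1: the labelling from section S

`propTorus`: the members of a bad involution at a point carry a field in which the centraliser
fixing the point is semilinear and contains all scalars.
Owner: helper67.
-/

set_option autoImplicit false
set_option linter.style.haveILetI false

namespace Cfsg.Agent.Lib.Crit5.KillOne

open MulAction Cfsg.Agent.Lib.Involutions.Basic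
open Cfsg.Agent.Lib.Crit8 (Action Bad memAt loc)

universe u

theorem propTorus : PropTorus.{u} := by
  intro G _ _ Ω _ D hM x a q r hx hc
  haveI := hM.faithful
  have hP := hM.act.toPre
  have ha : x • a = a := hc.fixes
  have hY := Shape.loc_bad hM.act hx ha
  have hmem : Shape.memIn D (loc D x) a = memCent D x a := Shape.memIn_loc
  have hcomm : ∀ d ∈ Shape.memIn D (loc D x) a, ∀ e ∈ Shape.memIn D (loc D x) a, Commute d e := by
    rw [hmem]; exact hc.commute
  obtain ⟨d, hd, e, he, hne⟩ : ∃ d ∈ memCent D x a, ∃ e ∈ memCent D x a, d ≠ e := by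
    have h1 : 1 < Nat.card (memCent D x a) := by
      have := hc.card_cent
      have := hc.four_le
      omega
    rw [Nat.card_coe_set_eq, Set.one_lt_ncard (Set.toFinite _)] at h1
    exact h1
  have hdY : d ∈ loc D x := Subgroup.subset_closure ⟨hd.1.1, hd.2⟩
  have heY : e ∈ loc D x := Subgroup.subset_closure ⟨he.1.1, he.2⟩
  have hfour : Shape.Four (loc D x) :=
    ⟨⟨d, hdY⟩, ⟨e, heY⟩, fun h => invol_ne_one (hP.invol d hd.1.1) (congrArg Subtype.val h),
      fun h => invol_ne_one (hP.invol e he.1.1) (congrArg Subtype.val h),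
      fun h => hne (congrArg Subtype.val h), Subtype.ext (invol_mul_self (hP.invol d hd.1.1)),
      Subtype.ext (invol_mul_self (hP.invol e he.1.1)), Subtype.ext (hc.commute d hd e he).eq⟩
  obtain ⟨b, hba, hb⟩ : ∃ b : Ω, b ≠ a ∧ x • b = b := by
    obtain ⟨p, s, hne, hp, hs⟩ := hx.two
    rcases eq_or_ne p a with rfl | h
    exacts [⟨s, hne.symm, hs⟩, ⟨p, h, hp⟩]
  obtain ⟨i, ι₀, -, -, hbij, h10, hadd, hscal, hsemi⟩ :=
    hY.exists_field hP hfour hcomm ((Shape.orbit_loc hP hx ha).2 hb) hba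
  rw [hmem] at hbij hadd hscal hsemi
  set A : Set G := insert 1 (memCent D x a) with hA
  set ι : GaloisField 2 i → G := Function.invFunOn ι₀ A with hι
  have hιA : ∀ z, ι z ∈ A := fun z => Function.invFunOn_mem (hbij.2.2 (Set.mem_univ z))
  have hιι : ∀ z, ι₀ (ι z) = z := fun z => Function.invFunOn_eq (hbij.2.2 (Set.mem_univ z))
  have hmulA : ∀ y ∈ A, ∀ z ∈ A, y * z ∈ A := by
    rintro y (rfl | hy) z hz
    · rwa [one_mul]
    rcases hz with rfl | hz
    · rw [mul_one]; exact Or.inr hy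
    by_cases hyz : y = z
    · subst hyz; exact Or.inl (invol_mul_self (hP.invol y hy.1.1))
    exact Or.inr ⟨⟨hM.act.mul_mem_D hy.1.1 hz.1.1 hyz (hc.commute y hy z hz),
      by rw [mul_smul, hz.1.2, hy.1.2]⟩, hy.2.mul_left hz.2⟩
  have hconjA : ∀ g : G, g • a = a → Commute g x → ∀ y ∈ A, g * y * g⁻¹ ∈ A := by
    rintro g hga hgx y (rfl | hy)
    · exact Or.inl (by group)
    · refine Or.inr ⟨?_, (hgx.mul_left hy.2).mul_left hgx.inv_left⟩
      have h1 := hP.conj_mem_memAt (g := g) hy.1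
      rwa [hga] at h1
  have hconj0 : ∀ {g : G}, g • a = a → Commute g x → ∀ {w : GaloisField 2 i} {z},
      ι₀ (g * ι z * g⁻¹) = w → g * ι z * g⁻¹ = ι w := fun {g} hga hgx {w} {z} h =>
    hbij.2.1 (hconjA g hga hgx _ (hιA z)) (hιA w) (h.trans (hιι w).symm)
  haveI : Finite (GaloisField 2 i) := inferInstance
  refine ⟨GaloisField 2 i, inferInstance, inferInstance, inferInstance, ι,
    { inj := fun y z h => by rw [← hιι y, h, hιι]
      range := fun g => ⟨fun ⟨z, hz⟩ => hz ▸ hιA z,
        fun hg => ⟨ι₀ g, hbij.2.1 (hιA _) hg (hιι _)⟩⟩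
      map_zero := hbij.2.1 (hιA 0) (Or.inl rfl) ((hιι 0).trans h10.symm)
      map_add := fun y z => hbij.2.1 (hιA _) (hmulA _ (hιA y) _ (hιA z))
        (by rw [hιι, hadd _ (hιA y) _ (hιA z), hιι, hιι])
      semi := fun g hga hgx => ?_
      scal := fun c hc0 => ?_ }⟩
  · have hg : g ∈ Shape.auto (loc D x) a := by
      refine ⟨?_, hga⟩
      refine Subgroup.mem_normalizer_iff_map_conj_eq.2 ?_
      rw [loc, MonoidHom.map_closure]
      congr 1
      ext y
      constructor
      · rintro ⟨z, ⟨hzD, hzx⟩, rfl⟩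
        exact ⟨hP.conj g z hzD, (hgx.mul_left hzx).mul_left hgx.inv_left⟩
      · rintro ⟨hyD, hyx⟩
        refine ⟨g⁻¹ * y * g, ⟨?_, (hgx.inv_left.mul_left hyx).mul_left hgx⟩, ?_⟩
        · have h1 := hP.conj g⁻¹ y hyD
          rwa [inv_inv] at h1
        · show g * (g⁻¹ * y * g) * g⁻¹ = y
          group
    obtain ⟨σ, c, -, hσ⟩ := hsemi g hg
    refine ⟨c, σ, fun z => hconj0 hga hgx ?_⟩
    rcases hιA z with h | h
    · have hz : z = 0 := by rw [← hιι z, h, h10]
      rw [h, mul_one, mul_inv_cancel, h10, hz, map_zero, mul_zero]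
    · rw [hσ _ h, hιι]
  · obtain ⟨g, hgY, hga, -, hgd⟩ := hscal c hc0
    have hgx := Shape.commute_of_mem_loc hgY
    refine ⟨g, hga, hgx, fun z => hconj0 hga hgx ?_⟩
    rcases hιA z with h | h
    · have hz : z = 0 := by rw [← hιι z, h, h10]
      rw [h, mul_one, mul_inv_cancel, h10, hz, mul_zero]
    · rw [hgd _ h, hιι]

end Cfsg.Agent.Lib.Crit5.KillOne
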