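import Cfsg.Agent.Lib.Crit5.CountsBasic

/-!
# The single fixed point criterion, type one: the setting

`PropTorus` is the fact used from section S: the centraliser of `x` in the point stabiliser acts
semilinearly on the members of `x`, with all the scalars.  `Uni` collects what holds for every bad
involution at every fixed point; then the fixed points of a bad involution at `a` other than `a`
form one orbit of its members.
Owner: helper67.
-/

set_option autoImplicit false
set_option linter.style.haveILetI false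
set_option linter.unusedSectionVars false

namespace Cfsg.Agent.Lib.Crit5.KillOne

open MulAction Subgroup Cfsg.Agent.Lib.Involutions.Basic
open Cfsg.Agent.Lib.Crit8 (Action Pre Bad memAt memSwap loc)

universe u

variable {G Ω : Type u} [Group G] [MulAction G Ω] {D : Set G}

/-- A field labelling of the members of `x` at `a`, semilinear for the centraliser of `x` fixing `a`,
with all scalars. -/
structure Torus (D : Set G) (x : G) (a : Ω) (K : Type*) [Field K] (ι : K → G) : Prop where
  inj : Function.Injective ι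
  range : ∀ g, (∃ z, ι z = g) ↔ (g = 1 ∨ g ∈ memCent D x a)
  map_zero : ι 0 = 1
  map_add : ∀ y z, ι (y + z) = ι y * ι z
  semi : ∀ g : G, g • a = a → Commute g x →
    ∃ (c : K) (σ : K ≃+* K), ∀ z, g * ι z * g⁻¹ = ι (c * σ z)
  scal : ∀ c : K, c ≠ 0 → ∃ g : G, g • a = a ∧ Commute g x ∧ ∀ z, g * ι z * g⁻¹ = ι (c * z)

/-- Section S: the labelling exists. -/
def PropTorus.{w} : Prop :=
  ∀ (X : Type w) [Group X] [Finite X] (Δ : Type w) [MulAction X Δ] (E : Set X), Min X Δ E →
    ∀ (x : X) (a : Δ) (q r : ℕ), Bad X Δ x → Counts E x a q 1 r →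
      ∃ (K : Type) (_ : Field K) (_ : Finite K) (_ : CharP K 2) (ι : K → X), Torus E x a K ι

/-- The facts common to all bad involutions. -/
structure Uni [Finite G] (D : Set G) (Ω : Type u) [MulAction G Ω] (q r : ℕ) : Prop where
  min : Min G Ω D
  comm : CountsB.CommCent G Ω D
  four : ∀ (x : G) (a : Ω), Bad G Ω x → x • a = a → FourAt D x a
  four_le : 4 ≤ q
  two_pow : ∃ i : ℕ, q = 2 ^ i
  card_mem : ∀ a : Ω, Nat.card (memAt G D a) = (q - 1) * r
  count : (Nat.card Ω - 1) * r = q * (r + (q + 1) * (q - 1))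
  card_cent : ∀ (v : G) (a : Ω), Bad G Ω v → v • a = a → Nat.card (memCent D v a) + 1 = q
  card_fix : ∀ v : G, Bad G Ω v → Nat.card {p : Ω // v • p = p} = q + 1
  pure : ∀ (v : G) (a : Ω), Bad G Ω v → v • a = a → ∀ d ∈ memCent D v a,
    ∃ s : G, s • a = a ∧ (∀ f ∈ memCent D v a, Commute s f) ∧ s * v * s⁻¹ = v * d

/-- The members of `v` at `a` with the identity. -/
def ES (D : Set G) (v : G) (a : Ω) : Subgroup G := closure (memCent D v a)

/-- The elements fixing `a` and centralising the members of `v` at `a`. -/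
def CE (D : Set G) (v : G) (a : Ω) : Subgroup G :=
  stabilizer G a ⊓ centralizer (memCent D v a)

variable [Finite G] {q r : ℕ}

namespace Uni

variable (U : Uni D Ω q r)
include U

theorem faithful : FaithfulSMul G Ω := U.min.faithful

theorem finite_pts : Finite Ω := CountsB.finite_points U.min

theorem pre : Pre G Ω D := U.min.act.toPre

variable {v : G} {a : Ω} (hv : Bad G Ω v) (ha : v • a = a)
include hv ha

theorem mem_ES {g : G} : g ∈ ES D v a ↔ g = 1 ∨ g ∈ memCent D v a := by
  obtain ⟨E, hE, -⟩ := CountsB.exists_sub U.min U.comm hv ha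
  have hEE : ES D v a = E := le_antisymm ((closure_le _).2 fun x hx => (hE x).2 (Or.inr hx))
    fun x hx => by
      rcases (hE x).1 hx with rfl | h
      · exact one_mem _
      · exact subset_closure h
  rw [hEE, hE]

theorem card_ES : Nat.card (ES D v a) = q := by
  obtain ⟨E, hE, hEc, -⟩ := CountsB.exists_sub U.min U.comm hv ha
  rw [show ES D v a = E from SetLike.ext fun g => by rw [U.mem_ES hv ha, hE], hEc,
    U.card_cent v a hv ha]

theorem ES_smul {g : G} (hg : g ∈ ES D v a) : g • a = a := by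
  rcases (U.mem_ES hv ha).1 hg with rfl | h
  exacts [one_smul _ _, h.1.2]

theorem ES_comm_self {g : G} (hg : g ∈ ES D v a) : Commute g v := by
  rcases (U.mem_ES hv ha).1 hg with rfl | h
  exacts [Commute.one_left v, h.2]

theorem ES_comm {g g' : G} (hg : g ∈ ES D v a) (hg' : g' ∈ ES D v a) : Commute g g' := by
  rcases (U.mem_ES hv ha).1 hg with rfl | h
  · exact Commute.one_left g'
  rcases (U.mem_ES hv ha).1 hg' with rfl | h'
  · exact Commute.one_right g
  exact U.comm v a hv ha g h g' h'

theorem ES_mul_self {g : G} (hg : g ∈ ES D v a) : g * g = 1 := by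
  rcases (U.mem_ES hv ha).1 hg with rfl | h
  exacts [one_mul 1, invol_mul_self (U.min.act.invol g h.1.1)]

theorem ES_inv {g : G} (hg : g ∈ ES D v a) : g⁻¹ = g :=
  inv_eq_of_mul_eq_one_right (U.ES_mul_self hv ha hg)

theorem ES_free {g : G} (hg : g ∈ ES D v a) {p : Ω} (hgp : g • p = p) (hp : p ≠ a) : g = 1 := by
  rcases (U.mem_ES hv ha).1 hg with rfl | h
  · rfl
  · exact absurd (U.pre.eq_of_fix h.1.1 hgp h.1.2) hp

theorem ES_smul_ne {g : G} (hg : g ∈ ES D v a) {p : Ω} (hp : p ≠ a) : g • p ≠ a := fun e =>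
  hp (MulAction.injective g (e.trans (U.ES_smul hv ha hg).symm))

theorem ES_smul_inj {g g' : G} (hg : g ∈ ES D v a) (hg' : g' ∈ ES D v a) {p : Ω} (hp : p ≠ a)
    (e : g • p = g' • p) : g = g' := by
  refine eq_of_inv_mul_eq_one (U.ES_free hv ha (mul_mem (inv_mem hg) hg') ?_ hp)
  rw [mul_smul, ← e, inv_smul_smul]

theorem mem_CE {g : G} : g ∈ CE D v a ↔ g • a = a ∧ ∀ e ∈ ES D v a, Commute g e := by
  constructor
  · intro hg
    refine ⟨hg.1, fun e he => ?_⟩
    rcases (U.mem_ES hv ha).1 he with rfl | h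
    · exact Commute.one_right g
    · exact (mem_centralizer_iff.1 hg.2 e h).symm
  · exact fun hg => mem_inf.2 ⟨hg.1,
      mem_centralizer_iff.2 fun d hd => (hg.2 d (subset_closure hd)).symm⟩

theorem ES_le_CE : ES D v a ≤ CE D v a := fun _ hg =>
  (U.mem_CE hv ha).2 ⟨U.ES_smul hv ha hg, fun _ he => U.ES_comm hv ha hg he⟩

theorem self_mem_CE : v ∈ CE D v a :=
  (U.mem_CE hv ha).2 ⟨ha, fun _ he => (U.ES_comm_self hv ha he).symm⟩

/-- Bad involutions centralising each other's members at `a` have the same ones. -/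
theorem ES_eq {w : G} (hw : Bad G Ω w) (hwC : w ∈ CE D v a) : ES D w a = ES D v a := by
  have hsub : memCent D v a ⊆ memCent D w a := fun d hd =>
    ⟨hd.1, mem_centralizer_iff.1 hwC.2 d hd⟩
  have h1 := U.card_cent v a hv ha
  have h2 := U.card_cent w a hw hwC.1
  unfold ES
  rw [Set.eq_of_subset_of_ncard_le hsub
    (by rw [← Nat.card_coe_set_eq, ← Nat.card_coe_set_eq]; omega) (Set.toFinite _)]

theorem CE_eq {w : G} (hw : Bad G Ω w) (hwC : w ∈ CE D v a) : CE D w a = CE D v a := by
  ext g
  rw [U.mem_CE hv ha, U.mem_CE hw hwC.1, U.ES_eq hv ha hw hwC]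

/-- The product with a member is bad with the same members. -/
theorem bad_mul_ES {e : G} (he : e ∈ ES D v a) : Bad G Ω (v * e) ∧ v * e ∈ CE D v a := by
  haveI := U.faithful
  refine ⟨?_, mul_mem (U.self_mem_CE hv ha) (U.ES_le_CE hv ha he)⟩
  rcases (U.mem_ES hv ha).1 he with rfl | h
  · rwa [mul_one]
  · exact U.pre.bad_mul hv h.1.1 h.2

/-- The fixed points other than `a` form one orbit of the members. -/
theorem fix_eq {w : G} (hw : Bad G Ω w) (hwC : w ∈ CE D v a) {p : Ω} (hwp : w • p = p)
    (hp : p ≠ a) {s : Ω} (hws : w • s = s) (hs : s ≠ a) : ∃ e ∈ ES D v a, e • p = s := by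
  haveI := U.finite_pts
  have hE := U.ES_eq hv ha hw hwC
  let f : ES D v a → {s : Ω // w • s = s ∧ s ≠ a} := fun e => ⟨(e : G) • p, by
    rw [smul_smul, ((U.ES_comm_self hw hwC.1 (hE.symm ▸ e.2)).symm).eq, mul_smul, hwp],
    U.ES_smul_ne hv ha e.2 hp⟩
  have hinj : Function.Injective f := fun e e' h => Subtype.ext
    (U.ES_smul_inj hv ha e.2 e'.2 hp (congrArg Subtype.val h))
  have hcard : Nat.card {s : Ω // w • s = s ∧ s ≠ a} ≤ q := by
    have h1 : Nat.card {s : Ω // w • s = s} = Nat.card ↥({s : Ω | w • s = s}) := rfl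
    have h2 : ({s : Ω | w • s = s} \ {a}).ncard + 1 = q + 1 := by
      rw [Set.ncard_diff_singleton_add_one (show a ∈ {s : Ω | w • s = s} from hwC.1),
        ← Nat.card_coe_set_eq, ← h1, U.card_fix w hw]
    have h3 : Nat.card {s : Ω // w • s = s ∧ s ≠ a} = ({s : Ω | w • s = s} \ {a}).ncard := by
      rw [← Nat.card_coe_set_eq]; rfl
    omega
  obtain ⟨e, he⟩ := ((Nat.bijective_iff_injective_and_card f).2 ⟨hinj,
    le_antisymm (Nat.card_le_card_of_injective f hinj) (by rw [U.card_ES hv ha]; exact hcard)⟩).2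
    ⟨s, hws, hs⟩
  exact ⟨e, e.2, congrArg Subtype.val he⟩

/-- An element centralising `w` and the members translates the fixed points of `w`. -/
theorem shift {w : G} (hw : Bad G Ω w) (hwC : w ∈ CE D v a) {y : G} (hy : y ∈ CE D v a)
    (hyw : Commute y w) {p : Ω} (hwp : w • p = p) (hp : p ≠ a) :
    ∃ e ∈ ES D v a, e • p = y • p :=
  U.fix_eq hv ha hw hwC hwp hp (by rw [smul_smul, ← hyw.eq, mul_smul, hwp])
    fun e => hp (MulAction.injective y (e.trans hy.1.symm))

/-- The square of an element translating a point fixes it. -/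
theorem sq_smul {y : G} (hy : y ∈ CE D v a) {p : Ω}
    (h : ∃ e ∈ ES D v a, e • p = y • p) : (y * y) • p = p := by
  obtain ⟨e, he, hep⟩ := h
  rw [mul_smul, ← hep, smul_smul, ((U.mem_CE hv ha).1 hy).2 e he, mul_smul, ← hep, smul_smul,
    U.ES_mul_self hv ha he, one_smul]

/-- Elements of the centraliser of the members and of `v` fixing two points. -/
theorem exists_other : ∃ b : Ω, b ≠ a ∧ v • b = b := by
  obtain ⟨p, s, hne, hp, hs⟩ := hv.two
  rcases eq_or_ne p a with rfl | h
  exacts [⟨s, hne.symm, hs⟩, ⟨p, h, hp⟩]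

end Uni

end Cfsg.Agent.Lib.Crit5.KillOne
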