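import Cfsg.Agent.Lib.Crit5.Interface
import Cfsg.Agent.Lib.Fusion.Thompson

/-!
# The single fixed point criterion, type one: transfer

`false_of_quot`: a Sylow subgroup cannot have a normal subgroup with abelian quotient containing its
members and none of its bad involutions, all in one coset.  `exists_complement`: the complement of
`u` in an elementary section which is invariant under the semilinear stabiliser.
Owner: helper67.
-/

set_option autoImplicit false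
set_option linter.style.haveILetI false
set_option linter.unusedSectionVars false

namespace Cfsg.Agent.Lib.Crit5.KillOne

open MulAction Subgroup Cfsg.Agent.Lib.Involutions.Basic
open Cfsg.Agent.Lib.Crit8 (Action Pre Bad memAt memSwap)

universe u

variable {G Ω : Type u} [Group G] [MulAction G Ω] [Finite G] {D : Set G}

theorem bad_conj {v : G} (hv : Bad G Ω v) (g : G) : Bad G Ω (g * v * g⁻¹) := by
  obtain ⟨p, s, hne, hp, hs⟩ := hv.two
  exact ⟨(orderOf_conj_eq g v).trans hv.invol, g • p, g • s, (MulAction.injective g).ne hne,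
    by rw [mul_smul, mul_smul, inv_smul_smul, hp], by rw [mul_smul, mul_smul, inv_smul_smul, hs]⟩

/-- No Sylow subgroup has an abelian quotient separating the members from the bad involutions. -/
theorem false_of_quot (hM : Min G Ω D) (S : Sylow 2 G) {Q : Subgroup G} (hQS : Q ≤ S)
    (hcomm : ∀ s ∈ (S : Subgroup G), ∀ t ∈ (S : Subgroup G), s * t * s⁻¹ * t⁻¹ ∈ Q)
    (hD : ∀ d ∈ (S : Subgroup G), d ∈ D → d ∈ Q) {u : G} (hu : u ∈ (S : Subgroup G))
    (hub : Bad G Ω u) (huQ : u ∉ Q)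
    (hbad : ∀ v ∈ (S : Subgroup G), Bad G Ω v → v * u⁻¹ ∈ Q) : False := by
  classical
  set S' : Subgroup G := S.toSubgroup with hS'
  have hcomm' : ∀ s ∈ S', ∀ t ∈ S', s * t * s⁻¹ * t⁻¹ ∈ Q := hcomm
  haveI hN : (Q.subgroupOf S').Normal := ⟨fun x hx g => by
    have h1 := mul_mem (hcomm' g g.2 x x.2) hx
    show (g : G) * x * (g : G)⁻¹ ∈ Q
    simpa [mul_assoc] using h1⟩
  letI : CommGroup (S' ⧸ Q.subgroupOf S') :=
    { (inferInstance : Group (S' ⧸ Q.subgroupOf S')) with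
      mul_comm := by
        rintro ⟨s⟩ ⟨t⟩
        show ((s * t : S') : S' ⧸ Q.subgroupOf S') = ((t * s : S') : S' ⧸ Q.subgroupOf S')
        rw [QuotientGroup.eq]
        show ((s * t : S') : G)⁻¹ * ((t : G) * s) ∈ Q
        have := hcomm' _ (inv_mem t.2) _ (inv_mem s.2)
        simpa [mul_assoc] using this }
  set φ : S' →* S' ⧸ Q.subgroupOf S' := QuotientGroup.mk' _
  have hφ : ∀ x : S', φ x = 1 ↔ (x : G) ∈ Q := fun x => QuotientGroup.eq_one_iff x
  have hφu : ∀ (x : G) (hx : x ∈ S'), Bad G Ω x → φ ⟨x, hx⟩ = φ ⟨u, hu⟩ := fun x hx hxb => by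
    rw [← mul_inv_eq_one, ← map_inv, ← map_mul, hφ]
    exact hbad x hx hxb
  set T := MonoidHom.transfer φ
  -- members
  have hTD : ∀ d ∈ D, T d = 1 := by
    intro d hd
    haveI : Fact (Nat.Prime 2) := ⟨Nat.prime_two⟩
    have hd2 : IsPGroup 2 (zpowers d) :=
      IsPGroup.of_card (n := 1) (by rw [Nat.card_zpowers, hM.act.invol d hd, pow_one])
    obtain ⟨g, hg⟩ : ∃ g : G, g * d * g⁻¹ ∈ S' := by
      obtain ⟨P, hP⟩ := hd2.exists_le_sylow
      obtain ⟨g, hg⟩ := MulAction.exists_smul_eq G P S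
      refine ⟨g, ?_⟩
      show g * d * g⁻¹ ∈ (S : Subgroup G)
      rw [← hg, Sylow.coe_subgroup_smul, Subgroup.mem_pointwise_smul_iff_inv_smul_mem]
      convert hP (mem_zpowers d) using 1
      simp [MulAut.smul_def, mul_assoc]
    have hd' : g * d * g⁻¹ ∈ D := hM.act.conj g d hd
    have key := Fusion.Thompson.transfer_controlled φ (g * d * g⁻¹) hg fun m h hm => by
      rw [(hφ ⟨g * d * g⁻¹, hg⟩).2 (hD _ hg hd'), one_pow, hφ]
      rcases Nat.even_or_odd m with ⟨k, hk⟩ | ⟨k, hk⟩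
      · show h * (g * d * g⁻¹) ^ m * h⁻¹ ∈ Q
        rw [hk, ← two_mul, pow_mul, pow_two, invol_mul_self (hM.act.invol _ hd'), one_pow]
        simp
      · refine hD _ hm ?_
        show h * (g * d * g⁻¹) ^ m * h⁻¹ ∈ D
        rw [hk, pow_add, pow_one, pow_mul, pow_two, invol_mul_self (hM.act.invol _ hd'), one_pow,
          one_mul]
        exact hM.act.conj _ _ hd'
    rw [(hφ ⟨g * d * g⁻¹, hg⟩).2 (hD _ hg hd'), one_pow] at key
    simpa using key
  have hTu : T u = 1 := by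
    have hker : closure D ≤ T.ker := (closure_le _).2 fun d hd => hTD d hd
    exact hker (hM.top ▸ mem_top u)
  -- the bad involution
  have huu := invol_mul_self hub.invol
  have key := Fusion.Thompson.transfer_controlled φ u hu fun m h hm => by
    rcases Nat.even_or_odd m with ⟨k, hk⟩ | ⟨k, hk⟩
    · have e : u ^ m = 1 := by rw [hk, ← two_mul, pow_mul, pow_two, huu, one_pow]
      rw [← map_pow, (hφ _).2 (by simp [e]), (hφ _).2 (by simp [e])]
    · have e : u ^ m = u := by rw [hk, pow_add, pow_one, pow_mul, pow_two, huu, one_pow, one_mul]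
      rw [← map_pow, hφu _ hm (by rw [e]; exact bad_conj hub h)]
      congr 1
      exact Subtype.ext (by simpa using e.symm)
  obtain ⟨k, hk⟩ : Odd S'.index := by
    rw [Nat.odd_iff]
    exact Nat.two_dvd_ne_zero.1 S.not_dvd_index
  have h1 : T u = φ ⟨u, hu⟩ ^ S'.index := key
  rw [hTu, hk, pow_add, pow_one, pow_mul, pow_two, ← map_mul,
    (hφ _).2 (by rw [Subgroup.coe_mul, huu]; exact one_mem Q), one_pow, one_mul] at h1
  exact huQ ((hφ _).1 h1.symm)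

/-- An elementary section `N / Z` over `⟨u⟩` with a semilinear group acting on the quotient has an
invariant complement to `u`. -/
theorem exists_complement {N Z : Subgroup G} (hZN : Z ≤ N)
    (hnorm : ∀ n ∈ N, ∀ z ∈ Z, n * z * n⁻¹ ∈ Z) (hsq : ∀ n ∈ N, n * n ∈ Z)
    {u : G} (hu : u ∈ N) (huZ : u ∉ Z) {K : Type*} [Field K] (π : G → K)
    (hπ : ∀ n ∈ N, ∀ m ∈ N, π (n * m) = π n + π m) (hπZ : ∀ z ∈ Z, π z = 0)
    (hπu : π u = 0) (hπker : ∀ n ∈ N, π n = 0 → n ∈ Z ∨ n * u ∈ Z)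
    (hπsurj : ∀ z, ∃ n ∈ N, π n = z) (A : Subgroup G)
    (hAN : ∀ g ∈ A, ∀ n ∈ N, g * n * g⁻¹ ∈ N) (hAZ : ∀ g ∈ A, ∀ z ∈ Z, g * z * g⁻¹ ∈ Z)
    (hAu : ∀ g ∈ A, g * u * g⁻¹ * u⁻¹ ∈ Z)
    (htriv : ∀ g ∈ A, (∀ n ∈ N, π (g * n * g⁻¹) = π n) → ∀ n ∈ N, g * n * g⁻¹ * n⁻¹ ∈ Z)
    (hsemi : ∀ g ∈ A, ∃ (c : K) (σ : K ≃+* K), ∀ n ∈ N, π (g * n * g⁻¹) = c * σ (π n))
    (hscal : ∀ c : K, c ≠ 0 → ∃ g ∈ A, ∀ n ∈ N, π (g * n * g⁻¹) = c * π n)
    (hK : ∃ c : K, c ≠ 0 ∧ c ≠ 1) :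
    ∃ Q : Subgroup G, Z ≤ Q ∧ Q ≤ N ∧ u ∉ Q ∧ (∀ n ∈ N, n ∈ Q ∨ n * u ∈ Q) ∧
      ∀ g ∈ A, ∀ x ∈ Q, g * x * g⁻¹ ∈ Q := by
  haveI : (Z.subgroupOf N).Normal := ⟨fun x hx g => hnorm g g.2 x hx⟩
  set p : N →* N ⧸ Z.subgroupOf N := QuotientGroup.mk' _
  have hp : ∀ x : N, p x = 1 ↔ (x : G) ∈ Z := fun x => QuotientGroup.eq_one_iff x
  have hpsurj : Function.Surjective p := QuotientGroup.mk'_surjective _
  have h2 : ∀ x : N, p x * p x = 1 := fun x => by
    rw [← map_mul, hp]; exact hsq x x.2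
  have hcm : ∀ x y : N, p x * p y = p y * p x := fun x y => by
    have hx := inv_eq_of_mul_eq_one_right (h2 x)
    have hy := inv_eq_of_mul_eq_one_right (h2 y)
    have hxy := inv_eq_of_mul_eq_one_right (h2 (x * y))
    rw [map_mul, mul_inv_rev, hx, hy] at hxy
    exact hxy.symm
  letI : CommGroup (N ⧸ Z.subgroupOf N) :=
    { (inferInstance : Group (N ⧸ Z.subgroupOf N)) with
      mul_comm := fun x y => by
        obtain ⟨x, rfl⟩ := hpsurj x
        obtain ⟨y, rfl⟩ := hpsurj y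
        exact hcm x y }
  -- the action on the quotient
  let act : ∀ g ∈ A, N →* N ⧸ Z.subgroupOf N := fun g hg => p.comp
    (MonoidHom.mk' (fun n : N => (⟨g * n * g⁻¹, hAN g hg n n.2⟩ : N))
      fun n m => Subtype.ext (by show g * (n * m : G) * g⁻¹ = _; simp [mul_assoc]))
  let θ : ∀ g ∈ A, N →* N ⧸ Z.subgroupOf N := fun g hg => act g hg * p
  have hθ : ∀ g hg n, θ g hg n = p ⟨g * n * g⁻¹, hAN g hg n n.2⟩ * p n := fun g hg n => rfl
  have hπ1 : π 1 = 0 := hπZ 1 (one_mem Z)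
  have hπp : ∀ x y : N, p x = p y → π x = π y := by
    intro x y h
    have h1 : ((x⁻¹ * y : N) : G) ∈ Z := (hp _).1 (by rw [map_mul, map_inv, h, inv_mul_cancel])
    have h2 := hπ x x.2 _ (x⁻¹ * y : N).2
    rw [hπZ _ h1, add_zero] at h2
    rw [← h2]
    simp
  have hker : ∀ g hg (n : N), π n = 0 → θ g hg n = 1 := by
    intro g hg n hn
    rw [hθ g hg]
    rcases hπker n n.2 hn with h | h
    · rw [(hp _).2 (hAZ g hg _ h), (hp n).2 h, one_mul]
    · have e : p n = p ⟨u, hu⟩ := by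
        have h1 : p (n * ⟨u, hu⟩) = 1 := (hp _).2 h
        rw [map_mul] at h1
        exact (mul_eq_one_iff_eq_inv.1 h1).trans (inv_eq_of_mul_eq_one_right (h2 _))
      have e' : p ⟨g * n * g⁻¹, hAN g hg n n.2⟩ = p ⟨g * u * g⁻¹, hAN g hg u hu⟩ := by
        have h1 : g * ((n : G) * u) * g⁻¹ ∈ Z := hAZ g hg _ h
        have h3 : p (⟨g * n * g⁻¹, hAN g hg n n.2⟩ * ⟨g * u * g⁻¹, hAN g hg u hu⟩) = 1 :=
          (hp _).2 (by rw [Subgroup.coe_mul]; simpa [mul_assoc] using h1)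
        rw [map_mul] at h3
        exact (mul_eq_one_iff_eq_inv.1 h3).trans (inv_eq_of_mul_eq_one_right (h2 _))
      have e'' : p ⟨g * u * g⁻¹, hAN g hg u hu⟩ = p ⟨u, hu⟩ := by
        rw [← mul_inv_eq_one, ← map_inv, ← map_mul, hp]
        exact hAu g hg
      rw [e, e', e'', h2]
  obtain ⟨c, hc0, hc1⟩ := hK
  obtain ⟨t, ht, htc⟩ := hscal c hc0
  set R := (θ t ht).range with hR
  -- the scalars have one range
  have hrange : ∀ g (hg : g ∈ A) (c' : K), (∀ n ∈ N, π (g * n * g⁻¹) = c' * π n) →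
      (θ g hg).range ≤ R := by
    intro g hg c' hgc x hx
    obtain ⟨n, rfl⟩ := hx
    obtain ⟨k, hk, hkn⟩ := hπsurj (π n / (c + 1))
    -- `n` is `θ t k` modulo `u`
    set m : N := ⟨t * k * t⁻¹, hAN t ht k hk⟩ * ⟨k, hk⟩
    have hmn : π m = π n := by
      show π (t * k * t⁻¹ * k) = π n
      rw [hπ _ (hAN t ht k hk) _ hk, htc k hk, hkn]
      have : c + 1 ≠ 0 := fun e => hc1 (by
        have h11 : (1 : K) + 1 = 0 := by
          obtain ⟨n₁, hn₁, hn₁'⟩ := hπsurj 1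
          have := hπ n₁ hn₁ n₁ hn₁
          rw [hπZ _ (hsq n₁ hn₁), hn₁'] at this
          exact this.symm
        linear_combination e - h11)
      field_simp
    have hnm : θ g hg n = θ g hg m := by
      have h1 : π ((n : G) * m) = 0 := by
        rw [hπ _ n.2 _ m.2, hmn]
        have := hπ _ n.2 _ n.2
        rwa [hπZ _ (hsq n n.2), eq_comm] at this
      have h2' := hker g hg (n * m) h1
      rw [map_mul] at h2'
      refine (mul_eq_one_iff_eq_inv.1 h2').trans ?_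
      rw [hθ g hg]
      exact inv_eq_of_mul_eq_one_right (by
        rw [mul_mul_mul_comm, h2, h2, one_mul])
    refine ⟨⟨g * k * g⁻¹, hAN g hg k hk⟩ * ⟨k, hk⟩, ?_⟩
    rw [hnm]
    have hswap : p ⟨t * (g * k * g⁻¹) * t⁻¹, hAN t ht _ (hAN g hg k hk)⟩ =
        p ⟨g * (t * k * t⁻¹) * g⁻¹, hAN g hg _ (hAN t ht k hk)⟩ := by
      have hA : (g * t)⁻¹ * (t * g) ∈ A := mul_mem (inv_mem (mul_mem hg ht)) (mul_mem ht hg)
      have h1 := htriv _ hA (fun n hn => by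
        set w := (g * t)⁻¹ * (t * g) * n * ((g * t)⁻¹ * (t * g))⁻¹
        have hw : w ∈ N := hAN _ hA n hn
        have e1 : π (g * (t * w * t⁻¹) * g⁻¹) = c' * (c * π w) := by
          rw [hgc _ (hAN t ht w hw), htc w hw]
        have e2 : π (t * (g * n * g⁻¹) * t⁻¹) = c * (c' * π n) := by
          rw [htc _ (hAN g hg n hn), hgc n hn]
        have e3 : g * (t * w * t⁻¹) * g⁻¹ = t * (g * n * g⁻¹) * t⁻¹ := by
          simp only [w]; group
        rw [e3, e2, mul_left_comm] at e1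
        rcases eq_or_ne c' 0 with h0 | h0
        · obtain ⟨n₁, hn₁, hn₁'⟩ := hπsurj 1
          have h3 := hgc (g⁻¹ * n₁ * g) (by simpa using hAN g⁻¹ (inv_mem hg) n₁ hn₁)
          rw [h0, zero_mul, show g * (g⁻¹ * n₁ * g) * g⁻¹ = n₁ by group, hn₁'] at h3
          exact absurd h3 one_ne_zero
        · exact (mul_left_cancel₀ hc0 (mul_left_cancel₀ h0 e1)).symm) k hk
      have h3 : g * t * ((g * t)⁻¹ * (t * g) * k * ((g * t)⁻¹ * (t * g))⁻¹ * k⁻¹) * (g * t)⁻¹ ∈ Z :=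
        hAZ _ (mul_mem hg ht) _ h1
      rw [← mul_inv_eq_one, ← map_inv, ← map_mul, hp]
      show t * (g * k * g⁻¹) * t⁻¹ * (g * (t * k * t⁻¹) * g⁻¹)⁻¹ ∈ Z
      convert h3 using 1
      group
    rw [map_mul, map_mul, hθ g hg, hθ g hg, hθ t ht, hθ t ht]
    rw [hswap]
    show p ⟨g * (t * k * t⁻¹) * g⁻¹, _⟩ * p ⟨g * k * g⁻¹, _⟩ * (p ⟨t * k * t⁻¹, _⟩ * p ⟨k, hk⟩) =
      p ⟨g * (t * k * t⁻¹) * g⁻¹, _⟩ * p ⟨t * k * t⁻¹, _⟩ * (p ⟨g * k * g⁻¹, _⟩ * p ⟨k, hk⟩)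
    exact mul_mul_mul_comm _ _ _ _
  refine ⟨(R.comap p).map N.subtype, ?_, map_subtype_le _, ?_, ?_, ?_⟩
  · intro z hz
    exact ⟨⟨z, hZN hz⟩, by rw [SetLike.mem_coe, mem_comap, (hp _).2 hz]; exact one_mem R, rfl⟩
  · rintro ⟨y, hy, hyu⟩
    obtain ⟨n, hn⟩ := hy
    have h1 : π (t * n * t⁻¹ * n) = π y := hπp (⟨t * n * t⁻¹, hAN t ht n n.2⟩ * n) y (by
      rw [map_mul, ← hθ t ht]; exact hn)
    rw [show (y : G) = u from hyu, hπu, hπ _ (hAN t ht n n.2) _ n.2, htc n n.2] at h1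
    have h0 : π (n : G) = 0 := by
      have : (c + 1) * π (n : G) = 0 := by linear_combination h1
      rcases mul_eq_zero.1 this with h | h
      · exfalso
        refine hc1 ?_
        have h11 : (1 : K) + 1 = 0 := by
          obtain ⟨n₁, hn₁, hn₁'⟩ := hπsurj 1
          have := hπ n₁ hn₁ n₁ hn₁
          rw [hπZ _ (hsq n₁ hn₁), hn₁'] at this
          exact this.symm
        linear_combination h - h11
      · exact h
    rw [hker t ht n h0] at hn
    exact huZ (hyu ▸ (hp y).1 hn.symm)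
  · intro n hn
    obtain ⟨k, hk, hkn⟩ := hπsurj (π n / (c + 1))
    set m : N := ⟨t * k * t⁻¹, hAN t ht k hk⟩ * ⟨k, hk⟩
    have hm : p m ∈ R := ⟨⟨k, hk⟩, (hθ t ht ⟨k, hk⟩).trans (map_mul p _ _).symm⟩
    have h0 : π (n * m) = 0 := by
      have h11 : (1 : K) + 1 = 0 := by
        obtain ⟨n₁, hn₁, hn₁'⟩ := hπsurj 1
        have := hπ n₁ hn₁ n₁ hn₁
        rw [hπZ _ (hsq n₁ hn₁), hn₁'] at this
        exact this.symm
      have hc' : c + 1 ≠ 0 := fun e => hc1 (by linear_combination e - h11)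
      rw [hπ _ hn _ m.2, show π (m : G) = π n by
        show π (t * k * t⁻¹ * k) = _
        rw [hπ _ (hAN t ht k hk) _ hk, htc k hk, hkn]
        field_simp]
      linear_combination π n * h11
    rcases hπker _ (mul_mem hn m.2) h0 with h | h
    · refine Or.inl ⟨⟨n, hn⟩, ?_, rfl⟩
      have e : p (⟨n, hn⟩ * m) = 1 := (hp _).2 h
      rw [map_mul] at e
      show p ⟨n, hn⟩ ∈ R
      rw [mul_eq_one_iff_eq_inv.1 e]
      exact inv_mem hm
    · refine Or.inr ⟨⟨n * u, mul_mem hn hu⟩, ?_, rfl⟩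
      have e : p (⟨n, hn⟩ * m * ⟨u, hu⟩) = 1 := (hp _).2 h
      rw [map_mul, map_mul, mul_right_comm, ← map_mul] at e
      show p (⟨n, hn⟩ * ⟨u, hu⟩) ∈ R
      rw [mul_eq_one_iff_eq_inv.1 e]
      exact inv_mem hm
  · rintro g hg _ ⟨y, ⟨n, hn⟩, rfl⟩
    refine ⟨⟨g * y * g⁻¹, hAN g hg y y.2⟩, ?_, rfl⟩
    obtain ⟨c', σ, hgs⟩ := hsemi g hg
    have ht' : g * t * g⁻¹ ∈ A := mul_mem (mul_mem hg ht) (inv_mem hg)
    refine hrange _ ht' (σ c) (fun w hw => ?_) ⟨⟨g * n * g⁻¹, hAN g hg n n.2⟩, ?_⟩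
    · have hw' : g⁻¹ * w * g ∈ N := by simpa using hAN g⁻¹ (inv_mem hg) w hw
      rw [show g * t * g⁻¹ * w * (g * t * g⁻¹)⁻¹ = g * (t * (g⁻¹ * w * g) * t⁻¹) * g⁻¹ by group,
        hgs _ (hAN t ht _ hw'), htc _ hw', map_mul, mul_left_comm, ← hgs _ hw',
        show g * (g⁻¹ * w * g) * g⁻¹ = w by group]
    · rw [hθ _ ht']
      have h1 : ((y⁻¹ * (⟨t * n * t⁻¹, hAN t ht n n.2⟩ * n) : N) : G) ∈ Z := by
        rw [← hp, map_mul, map_inv, map_mul, ← hθ t ht, hn, inv_mul_cancel]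
      have h3 := hAZ g hg _ h1
      rw [← map_mul, eq_comm, ← inv_mul_eq_one, ← map_inv, ← map_mul, hp]
      convert h3 using 1
      simp only [Subgroup.coe_mul, Subgroup.coe_inv]
      group

end Cfsg.Agent.Lib.Crit5.KillOne
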