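import Cfsg.Agent.Lib.Crit5.KillOne.Semi
import Cfsg.Agent.Lib.Crit5.KillOne.Transfer
import Cfsg.Agent.Lib.Crit5.FactsCore
import Cfsg.Agent.Lib.BC77.Hall4.FourFormula

/-!
# The single fixed point criterion, type one with `r = q + 1`

No four group of bad involutions fixes two points (four group order formula on the swappers), so the
elements fixing `a` and centralising the members of `x` form a group transitive on the other `q ^ 2`
points with stabiliser `⟨x⟩`, whose bad involutions are the products of `x` with members.  An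
invariant complement gives a transfer.
Owner: helper67.
-/

set_option autoImplicit false
set_option linter.style.haveILetI false
set_option linter.unusedSectionVars false

namespace Cfsg.Agent.Lib.Crit5.KillOne

open MulAction Subgroup Cfsg.Agent.Lib.Involutions.Basic
open Cfsg.Agent.Lib.Crit8 (Action Pre Bad memAt memSwap)

universe u

variable {G Ω : Type u} [Group G] [MulAction G Ω] [Finite G] {D : Set G} {q : ℕ}

theorem card_points (U : Uni D Ω q (q + 1)) : Nat.card Ω = q ^ 2 + 1 := by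
  have h := U.count
  have h4 := U.four_le
  have h1 : Nat.card Ω - 1 = q ^ 2 := by
    refine Nat.eq_of_mul_eq_mul_right (show 0 < q + 1 by omega) (h.trans ?_)
    obtain ⟨j, rfl⟩ : ∃ j, q = j + 1 := ⟨q - 1, by omega⟩
    simp only [Nat.add_sub_cancel]
    ring
  have : 0 < Nat.card Ω - 1 := by rw [h1]; positivity
  omega

/-- Products with members cover the other points. -/
theorem exists_line (U : Uni D Ω q (q + 1)) {v : G} {a : Ω} (hv : Bad G Ω v) (ha : v • a = a)
    {p : Ω} (hp : p ≠ a) : ∃ e ∈ ES D v a, (v * e) • p = p := by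
  haveI := U.finite_pts
  classical
  haveI := Fintype.ofFinite Ω
  let P := Σ e : ES D v a, {s : Ω // (v * (e : G)) • s = s ∧ s ≠ a}
  let f : P → {s : Ω // s ≠ a} := fun x => ⟨x.2.1, x.2.2.2⟩
  have hinj : Function.Injective f := by
    rintro ⟨e, s, hs, hsa⟩ ⟨e', s', hs', hsa'⟩ h
    obtain rfl : s = s' := congrArg Subtype.val h
    obtain rfl : e = e' := by
      refine Subtype.ext (U.ES_smul_inj hv ha e.2 e'.2 hsa ?_)
      exact MulAction.injective v (show v • (e : G) • s = v • (e' : G) • s by rw [← mul_smul, ← mul_smul, hs, hs'])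
    rfl
  have hfib : ∀ e : ES D v a, Nat.card {s : Ω // (v * (e : G)) • s = s ∧ s ≠ a} = q := by
    intro e
    obtain ⟨hb, hC⟩ := U.bad_mul_ES hv ha e.2
    have h1 := U.card_fix _ hb
    have h2 := Set.ncard_diff_singleton_add_one
      (show a ∈ {s : Ω | (v * (e : G)) • s = s} from hC.1)
    rw [← Nat.card_coe_set_eq, ← Nat.card_coe_set_eq] at h2
    have h3 : Nat.card ↥({s : Ω | (v * (e : G)) • s = s} \ {a}) + 1 = q + 1 := h2.trans h1
    exact Nat.succ_injective h3
  haveI := Fintype.ofFinite (ES D v a)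
  have hP : Nat.card P = q ^ 2 := by
    rw [Nat.card_sigma, Finset.sum_congr rfl fun e _ => hfib e, Finset.sum_const, Finset.card_univ,
      smul_eq_mul, ← Nat.card_eq_fintype_card, U.card_ES hv ha, sq]
  have hT : Nat.card {s : Ω // s ≠ a} = q ^ 2 := by
    rw [Nat.card_eq_fintype_card, Fintype.card_subtype_compl, Fintype.card_subtype_eq,
      ← Nat.card_eq_fintype_card, card_points U, Nat.add_sub_cancel]
  obtain ⟨⟨e, s, hs, hsa⟩, he⟩ :=
    ((Nat.bijective_iff_injective_and_card f).2 ⟨hinj, hP.trans hT.symm⟩).2 ⟨p, hp⟩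
  obtain rfl : s = p := congrArg Subtype.val he
  exact ⟨e, e.2, hs⟩

/-- An element centralising the members and `v` translates every other point. -/
theorem translates (U : Uni D Ω q (q + 1)) {v : G} {a : Ω} (hv : Bad G Ω v) (ha : v • a = a)
    {y : G} (hy : y ∈ CE D v a) (hyv : Commute y v) {p : Ω} (hp : p ≠ a) :
    ∃ e ∈ ES D v a, e • p = y • p := by
  obtain ⟨e, he, hep⟩ := exists_line U hv ha hp
  obtain ⟨hb, hC⟩ := U.bad_mul_ES hv ha he
  exact U.shift hv ha hb hC hy (hyv.mul_right (((U.mem_CE hv ha).1 hy).2 e he)) hep hp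

/-- Swappers of a pair commuting with a bad involution fixing it correspond to its members at one
of the two points. -/
theorem card_swap_comm (U : Uni D Ω q (q + 1)) {a b : Ω} (hab : a ≠ b) {v : G} (hv : Bad G Ω v)
    (ha : v • a = a) (hb : v • b = b) :
    Nat.card {w : G // w ∈ memSwap G D a b ∧ Commute w v} + 1 = q := by
  have P := U.pre
  obtain ⟨d, hd⟩ := CountsB.exists_commute U.min v hv ha
  rw [← U.card_cent v b hv hb]
  congr 1
  refine Nat.card_eq_of_bijective (fun w => (⟨w.1 * d * w.1⁻¹, ?_, ?_⟩ : memCent D v b))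
    ⟨fun w w' h => Subtype.ext (P.swap_unique hab hd.1 w.2.1 w'.2.1 (congrArg Subtype.val h)),
      fun e => ?_⟩
  · have h1 := P.conj_mem_memAt (g := w.1) hd.1
    rwa [w.2.1.2] at h1
  · exact ((w.2.2.mul_left hd.2).mul_left w.2.2.inv_left)
  · obtain ⟨w, hwD, hwa, hwe⟩ := P.exists_swap hd.1 e.2.1 hab
    have hwb : w • b = a := P.memSwap_smul ⟨hwD, hwa⟩
    have hv' : v * w * v⁻¹ ∈ memSwap G D a b := by
      refine ⟨P.conj v w hwD, ?_⟩
      rw [mul_smul, mul_smul, inv_smul_eq_iff.2 ha.symm, hwa, hb]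
    have h1 : v * w * v⁻¹ * d * (v * w * v⁻¹)⁻¹ = e.1 := by
      calc v * w * v⁻¹ * d * (v * w * v⁻¹)⁻¹
          = v * (w * (v⁻¹ * (d * v)) * w⁻¹) * v⁻¹ := by group
        _ = v * (w * d * w⁻¹) * v⁻¹ := by rw [hd.2.eq, inv_mul_cancel_left]
        _ = v * e.1 * v⁻¹ := by rw [hwe]
        _ = e.1 := by rw [← e.2.2.eq, mul_inv_cancel_right]
    have h2 := P.swap_unique hab hd.1 hv' ⟨hwD, hwa⟩ (h1.trans hwe.symm)
    exact ⟨⟨w, ⟨hwD, hwa⟩, (mul_inv_eq_iff_eq_mul.1 h2).symm⟩, Subtype.ext hwe⟩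

/-- No four group of bad involutions fixes two points. -/
theorem eq_of_commute_bad (U : Uni D Ω q (q + 1)) {a b : Ω} (hab : a ≠ b) {x y : G}
    (hx : Bad G Ω x) (hy : Bad G Ω y) (hxa : x • a = a) (hxb : x • b = b) (hya : y • a = a)
    (hyb : y • b = b) (hxy : Commute x y) : x = y := by
  classical
  by_contra hne
  haveI := U.faithful
  have P := U.pre
  have hxx := invol_mul_self hx.invol
  have hyy := invol_mul_self hy.invol
  have hzz : x * y * (x * y) = 1 := by
    calc x * y * (x * y) = x * (y * x) * y := by group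
      _ = x * (x * y) * y := by rw [hxy.eq]
      _ = x * x * (y * y) := by group
      _ = 1 := by rw [hxx, hyy, one_mul]
  have hz : Bad G Ω (x * y) :=
    ⟨invol_iff.2 ⟨hzz, fun h => hne ((eq_inv_of_mul_eq_one_left h).trans (invol_inv hy.invol))⟩,
      a, b, hab, by rw [mul_smul, hya, hxa], by rw [mul_smul, hyb, hxb]⟩
  -- a swapper commuting with both
  obtain ⟨w, ⟨hw, hwx⟩, hwy⟩ := Pre.exists_commute_of_odd hyy
    (S := {w | w ∈ memSwap G D a b ∧ Commute w x}) (fun w hw => by
      refine ⟨⟨P.conj y w hw.1.1, ?_⟩, ?_⟩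
      · rw [mul_smul, mul_smul, inv_smul_eq_iff.2 hya.symm, hw.1.2, hyb]
      · exact (hxy.symm.mul_left hw.2).mul_left hxy.symm.inv_left)
    (by
      have h1 := card_swap_comm U hab hx hxa hxb
      obtain ⟨i, hi⟩ := U.two_pow
      have h4 := U.four_le
      rw [Nat.odd_iff]
      change Nat.card {w : G // w ∈ memSwap G D a b ∧ Commute w x} % 2 = 1
      have : 2 ∣ q := hi ▸ dvd_pow_self 2 (by rintro rfl; omega)
      omega)
  set K := stabilizer G a ⊓ stabilizer G b with hK
  set O := Facts.oddC K with hO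
  have hodd : Odd (Nat.card O) := Facts.oddC_odd K
  have hxK : x ∈ K := mem_inf.2 ⟨hxa, hxb⟩
  have hyK : y ∈ K := mem_inf.2 ⟨hya, hyb⟩
  have hn : ∀ g ∈ K, ∀ h ∈ O, g * h * g⁻¹ ∈ O := fun g hg h hh => Facts.conj_mem_oddC hg hh
  have hkey : ∀ (X : Set G), (∀ g ∈ X, g ∈ K ∧ Commute g w) →
      Nat.card {v : G // v ∈ memSwap G D a b ∧ ∀ g ∈ X, Commute v g} *
          Nat.card ↥(O ⊓ centralizer X ⊓ centralizer {w}) =
        Nat.card ↥(O ⊓ centralizer X) := by
    intro X hX
    set OX := O ⊓ centralizer X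
    let f : OX → {v : G // v ∈ memSwap G D a b ∧ ∀ g ∈ X, Commute v g} := fun o =>
      ⟨o * w * (o : G)⁻¹, ⟨P.conj _ w hw.1, by
        have ho := map_subtype_le (H := K) _ o.2.1
        rw [mul_smul, mul_smul, inv_smul_eq_iff.2 (ho.1 : (o : G) • a = a).symm, hw.2]
        exact ho.2⟩, fun g hg => by
        have h1 : Commute (o : G) g := (mem_centralizer_iff.1 o.2.2 g hg).symm
        exact ((h1.mul_left (hX g hg).2.symm).mul_left h1.inv_left)⟩
    have hsurj : Function.Surjective f := by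
      rintro ⟨v, hv, hvX⟩
      have hab' := hab
      obtain ⟨o, ho, hov⟩ := Facts.swap_conj U.min.act hab' hv hw
      have hwo : w * o * w⁻¹ ∈ O := by
        have h1 := mul_mem (Facts.swap_commutator U.min.act hab' hw (map_subtype_le _ ho)) ho
        rwa [inv_mul_cancel_right] at h1
      have hvw : v * w ∈ O := by
        have e : v * w = o * (w * o⁻¹ * w) := by rw [← hov]; group
        rw [e]
        refine mul_mem ho ?_
        have h1 := inv_mem hwo
        rwa [mul_inv_rev, mul_inv_rev, inv_inv, invol_inv (P.invol w hw.1), ← mul_assoc] at h1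
      obtain ⟨n, hn'⟩ : Odd (orderOf (v * w)) :=
        hodd.of_dvd_nat (Subgroup.orderOf_dvd_natCard _ hvw)
      refine ⟨⟨(v * w) ^ (n + 1), mem_inf.2 ⟨pow_mem hvw _, pow_mem
        (mem_centralizer_iff.2 fun g hg => ((hvX g hg).symm.mul_right (hX g hg).2).eq) _⟩⟩, ?_⟩
      refine Subtype.ext ?_
      show (v * w) ^ (n + 1) * w * ((v * w) ^ (n + 1))⁻¹ = v
      have hvv := invol_mul_self (P.invol v hv.1)
      have hww := invol_mul_self (P.invol w hw.1)
      have hflip : ∀ k : ℕ, w * ((v * w) ^ k)⁻¹ = (v * w) ^ k * w := by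
        intro k
        induction k with
        | zero => simp
        | succ k ih =>
          rw [pow_succ', mul_inv_rev, ← mul_assoc, ih, mul_inv_rev, invol_inv (P.invol w hw.1),
            invol_inv (P.invol v hv.1), ← mul_assoc, mul_assoc _ w w, hww, mul_one,
            ← pow_succ' (v * w), pow_succ (v * w) k, mul_assoc ((v * w) ^ k) (v * w) w,
            mul_assoc v w w, hww, mul_one]
      rw [mul_assoc, hflip, ← mul_assoc, ← pow_add, show n + 1 + (n + 1) = 2 * n + 1 + 1 by ring,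
        pow_succ, ← hn', pow_orderOf_eq_one, one_mul, mul_assoc, hww, mul_one]
    rw [Nat.card_congr (Equiv.sigmaFiberEquiv f).symm]
    have hfib : ∀ v, Nat.card {o : OX // f o = v} = Nat.card ↥(OX ⊓ centralizer {w}) := by
      intro v
      obtain ⟨o₀, rfl⟩ := hsurj v
      refine Nat.card_congr
        { toFun := fun o => ⟨(o₀ : G)⁻¹ * o.1, mem_inf.2 ⟨mul_mem (inv_mem o₀.2) o.1.2,
            mem_centralizer_singleton_iff.2 ?_⟩⟩
          invFun := fun c => ⟨⟨o₀ * c.1, mul_mem o₀.2 c.2.1⟩, ?_⟩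
          left_inv := fun o => Subtype.ext (Subtype.ext (mul_inv_cancel_left _ _))
          right_inv := fun c => Subtype.ext (inv_mul_cancel_left _ _) }
      · have h1 : (o.1 : G) * w * (o.1 : G)⁻¹ = o₀ * w * (o₀ : G)⁻¹ := congrArg Subtype.val o.2
        calc (o₀ : G)⁻¹ * o.1 * w = (o₀ : G)⁻¹ * ((o.1 : G) * w * (o.1 : G)⁻¹) * o.1 := by group
          _ = w * ((o₀ : G)⁻¹ * o.1) := by rw [h1]; group
      · refine Subtype.ext ?_
        show (o₀ : G) * c.1 * w * ((o₀ : G) * c.1)⁻¹ = o₀ * w * (o₀ : G)⁻¹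
        rw [mul_assoc (o₀ : G) c.1 w, mem_centralizer_singleton_iff.1 c.2.2]
        group
    haveI := Fintype.ofFinite {v : G // v ∈ memSwap G D a b ∧ ∀ g ∈ X, Commute v g}
    rw [Nat.card_sigma, Finset.sum_congr rfl fun v _ => hfib v, Finset.sum_const,
      Finset.card_univ, smul_eq_mul, ← Nat.card_eq_fintype_card]
  have hcv : ∀ v : G, Bad G Ω v → v • a = a → v • b = b →
      Nat.card {w : G // w ∈ memSwap G D a b ∧ ∀ g ∈ ({v} : Set G), Commute w g} + 1 = q := by
    intro v hv h1 h2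
    rw [← card_swap_comm U hab hv h1 h2]
    congr 1
    exact Nat.card_congr (Equiv.subtypeEquivRight fun w => by simp)
  have hm : Nat.card {w : G // w ∈ memSwap G D a b ∧ ∀ g ∈ (∅ : Set G), Commute w g} =
      (q - 1) * (q + 1) := by
    rw [← U.card_mem b, ← P.card_memSwap hab]
    exact Nat.card_congr (Equiv.subtypeEquivRight fun w => by simp)
  have hxw : Commute x w := hwx.symm
  have hyw : Commute y w := hwy.symm
  have k0 := hkey ∅ (by simp)
  have k1 := hkey {x} (by rintro g rfl; exact ⟨hxK, hxw⟩)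
  have k2 := hkey {y} (by rintro g rfl; exact ⟨hyK, hyw⟩)
  have k3 := hkey {x * y} (by rintro g rfl; exact ⟨mul_mem hxK hyK, hxw.mul_left hyw⟩)
  have k4 := hkey {x, y} (by rintro g (rfl | rfl); exacts [⟨hxK, hxw⟩, ⟨hyK, hyw⟩])
  have hc : centralizer ({x, y} : Set G) = centralizer {x} ⊓ centralizer {y} := by
    ext g; simp only [mem_inf, mem_centralizer_iff, Set.mem_insert_iff, Set.mem_singleton_iff]
    exact ⟨fun h => ⟨fun z hz => h z (Or.inl hz), fun z hz => h z (Or.inr hz)⟩,
      fun h z hz => hz.elim (h.1 z) (h.2 z)⟩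
  have h0 : O ⊓ centralizer (∅ : Set G) = O := by
    refine inf_eq_left.2 fun g _ => mem_centralizer_iff.2 fun z hz => absurd hz (by simp)
  rw [h0] at k0
  have F1 := BC77.Hall4.card_four hodd hxx hyy hxy.eq (hn x hxK) (hn y hyK)
  have hSn : ∀ g ∈ K, Commute g w → ∀ h ∈ O ⊓ centralizer {w}, g * h * g⁻¹ ∈ O ⊓ centralizer {w} := by
    intro g hg hgw h hh
    refine mem_inf.2 ⟨hn g hg h hh.1, mem_centralizer_singleton_iff.2 ?_⟩
    exact ((hgw.mul_left (mem_centralizer_singleton_iff.1 hh.2)).mul_left hgw.inv_left).eq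
  have F2 := BC77.Hall4.card_four (hodd.of_dvd_nat (card_dvd_of_le (inf_le_left :
    O ⊓ centralizer {w} ≤ O))) hxx hyy hxy.eq (hSn x hxK hxw) (hSn y hyK hyw)
  simp only [BC77.Hall4.fx] at F1 F2
  rw [hc] at k4
  rw [show O ⊓ centralizer {x} ⊓ (O ⊓ centralizer {y}) = O ⊓ (centralizer {x} ⊓ centralizer {y})
    by rw [inf_inf_inf_comm, inf_idem]] at F1
  rw [show O ⊓ centralizer {w} ⊓ centralizer {x} ⊓ (O ⊓ centralizer {w} ⊓ centralizer {y}) =
      O ⊓ (centralizer {x} ⊓ centralizer {y}) ⊓ centralizer {w} by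
      rw [inf_inf_inf_comm, inf_idem, inf_right_comm],
    inf_right_comm O (centralizer {w}) (centralizer {x}),
    inf_right_comm O (centralizer {w}) (centralizer {y}),
    inf_right_comm O (centralizer {w}) (centralizer {x * y})] at F2
  set c4 := Nat.card {v : G // v ∈ memSwap G D a b ∧ ∀ g ∈ ({x, y} : Set G), Commute v g}
  rw [← k0, ← k1, ← k2, ← k3, ← k4, hm] at F1
  have hc1 := hcv x hx hxa hxb
  have hc2 := hcv y hy hya hyb
  have hc3 := hcv (x * y) hz (by rw [mul_smul, hya, hxa]) (by rw [mul_smul, hyb, hxb])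
  have hp1 : 0 < Nat.card ↥(O ⊓ centralizer {x} ⊓ centralizer {w}) := Nat.card_pos
  have hp2 : 0 < Nat.card ↥(O ⊓ centralizer {y} ⊓ centralizer {w}) := Nat.card_pos
  have hp3 : 0 < Nat.card ↥(O ⊓ centralizer {x * y} ⊓ centralizer {w}) := Nat.card_pos
  have key : (q - 1) * (q + 1) * c4 ^ 2 = (q - 1) * (q - 1) * (q - 1) := by
    rw [Nat.eq_sub_of_add_eq hc1, Nat.eq_sub_of_add_eq hc2, Nat.eq_sub_of_add_eq hc3] at F1
    refine Nat.eq_of_mul_eq_mul_right (Nat.mul_pos (Nat.mul_pos hp1 hp2) hp3) ?_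
    calc (q - 1) * (q + 1) * c4 ^ 2 * _ = (q - 1) * (q + 1) * c4 ^ 2 *
          (Nat.card ↥(O ⊓ centralizer {x} ⊓ centralizer {w}) *
            Nat.card ↥(O ⊓ centralizer {y} ⊓ centralizer {w}) *
            Nat.card ↥(O ⊓ centralizer {x * y} ⊓ centralizer {w})) := rfl
      _ = (q - 1) * (q + 1) * Nat.card ↥(O ⊓ centralizer {w}) *
            (c4 * Nat.card ↥(O ⊓ (centralizer {x} ⊓ centralizer {y}) ⊓ centralizer {w})) ^ 2 := by
          rw [← F2]; ring
      _ = _ := by rw [F1]
      _ = _ := by ring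
  have h4 := U.four_le
  obtain ⟨j, rfl⟩ : ∃ j, q = j + 4 := ⟨q - 4, by omega⟩
  rw [show j + 4 - 1 = j + 3 by omega] at key
  have k5 : (j + 5) * c4 ^ 2 = (j + 3) * (j + 3) := by
    refine Nat.eq_of_mul_eq_mul_left (show 0 < j + 3 by omega) ?_
    linear_combination key
  have hd : j + 5 ∣ 4 := by
    have h1 : j + 5 ∣ (j + 5) * (j + 1) + 4 := ⟨c4 ^ 2, by rw [k5]; ring⟩
    exact (Nat.dvd_add_right (Dvd.intro _ rfl)).1 h1
  have := Nat.le_of_dvd (by norm_num) hd
  omega

end Cfsg.Agent.Lib.Crit5.KillOne
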