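import Cfsg.Agent.Lib.Crit5.KillOne.Big

/-!
# The single fixed point criterion, type one with `r = q + 1`: the contradiction

Owner: helper67.
-/

set_option autoImplicit false
set_option linter.style.haveILetI false
set_option linter.unusedSectionVars false

namespace Cfsg.Agent.Lib.Crit5.KillOne

open MulAction Subgroup Cfsg.Agent.Lib.Involutions.Basic
open Cfsg.Agent.Lib.Crit8 (Action Pre Bad memAt memSwap)

universe u

variable {G Ω : Type u} [Group G] [MulAction G Ω] [Finite G] {D : Set G} {q : ℕ}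
  (U : Uni D Ω q (q + 1)) {x : G} {a b : Ω} (hx : Bad G Ω x) (ha : x • a = a) (hb : x • b = b)
  (hba : b ≠ a)

include U hx ha in
/-- Two elements translating every point commute. -/
theorem commute_translators {y z : G} (hy : y ∈ CE D x a) (hz : z ∈ CE D x a)
    (hty : ∀ p : Ω, p ≠ a → ∃ e ∈ ES D x a, e • p = y • p)
    (htz : ∀ p : Ω, p ≠ a → ∃ e ∈ ES D x a, e • p = z • p) : Commute y z := by
  refine U.faithful.eq_of_smul_eq_smul fun p => ?_
  rcases eq_or_ne p a with rfl | hp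
  · rw [mul_smul, mul_smul, hz.1, hy.1, hz.1]
  · obtain ⟨e, he, hep⟩ := hty p hp
    obtain ⟨f, hf, hfp⟩ := htz p hp
    rw [mul_smul, mul_smul, ← hfp, ← hep, smul_smul, smul_smul,
      (((U.mem_CE hx ha).1 hy).2 f hf).eq, (((U.mem_CE hx ha).1 hz).2 e he).eq, mul_smul,
      mul_smul, ← hfp, ← hep, smul_smul, smul_smul, (U.ES_comm hx ha hf he).eq]

include U hx ha hb hba in
/-- An element of the centraliser of the members and of `x` fixing another point is `1` or `x`. -/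
theorem eq_one_or_self {y : G} (hy : y ∈ CE D x a) (hyb : y • b = b) (hyx : Commute y x) :
    y = 1 ∨ y = x := by
  by_cases h1 : y = 1
  · exact Or.inl h1
  refine Or.inr ?_
  have hyy : y * y = 1 := U.faithful.eq_of_smul_eq_smul fun p => by
    rw [one_smul]
    rcases eq_or_ne p a with rfl | hp
    · rw [mul_smul, hy.1, hy.1]
    · exact U.sq_smul hx ha hy (translates U hx ha hy hyx hp)
  exact eq_of_commute_bad U hba.symm ⟨invol_iff.2 ⟨hyy, h1⟩, a, b, hba.symm, hy.1, hyb⟩ hx hy.1 hyb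
    ha hb hyx

include U hx ha hb hba in
theorem inf_stab {y : G} (hy : y ∈ CE D x a) (hyb : y • b = b) : y = 1 ∨ y = x := by
  have hva : (y * x * y⁻¹) • a = a := by
    rw [mul_smul, mul_smul, inv_smul_eq_iff.2 hy.1.symm, ha, hy.1]
  have hvb : (y * x * y⁻¹) • b = b := by
    rw [mul_smul, mul_smul, inv_smul_eq_iff.2 hyb.symm, hb, hyb]
  have hv := bad_conj hx y
  have hvC : y * x * y⁻¹ ∈ CE D x a := mul_mem (mul_mem hy (U.self_mem_CE hx ha)) (inv_mem hy)
  have hcomm : Commute (y * x * y⁻¹) x := by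
    refine commute_translators U hx ha hvC (U.self_mem_CE hx ha) (fun p hp => ?_) fun p hp =>
      translates U hx ha (U.self_mem_CE hx ha) (Commute.refl x) hp
    have h := translates U hv hva (U.self_mem_CE hv hva) (Commute.refl _) hp
    rwa [U.ES_eq hx ha hv hvC] at h
  have he := eq_of_commute_bad U hba.symm hv hx hva hvb ha hb hcomm
  exact eq_one_or_self U hx ha hb hba hy hyb (mul_inv_eq_iff_eq_mul.1 he)

include U hx ha hb hba in
/-- The centraliser of `x` in `CE`. -/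
theorem cent_self {y : G} (hy : y ∈ CE D x a) (hyx : Commute y x) :
    y ∈ ES D x a ∨ x * y ∈ ES D x a := by
  obtain ⟨e, he, hep⟩ := translates U hx ha hy hyx hba
  rcases inf_stab U hx ha hb hba (y := e⁻¹ * y)
    (mul_mem (inv_mem (U.ES_le_CE hx ha he)) hy)
    (by rw [mul_smul, ← hep, inv_smul_smul]) with h | h
  · exact Or.inl (by rwa [← eq_of_inv_mul_eq_one h])
  · refine Or.inr ?_
    rw [inv_mul_eq_iff_eq_mul.1 h, ← mul_assoc, ← (U.ES_comm_self hx ha he).eq, mul_assoc,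
      invol_mul_self hx.invol, mul_one]
    exact he

include U hx ha hb hba in
/-- The bad elements centralising the members are `x` times members. -/
theorem bad_mem_CE {v : G} (hv : Bad G Ω v) (hvC : v ∈ CE D x a) : x * v ∈ ES D x a := by
  have hcomm : Commute v x := by
    refine commute_translators U hx ha hvC (U.self_mem_CE hx ha) (fun p hp => ?_) fun p hp =>
      translates U hx ha (U.self_mem_CE hx ha) (Commute.refl x) hp
    have h := translates U hv hvC.1 (U.self_mem_CE hv hvC.1) (Commute.refl _) hp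
    rwa [U.ES_eq hx ha hv hvC] at h
  rcases cent_self U hx ha hb hba hvC hcomm with h | h
  · rcases (U.mem_ES hx ha).1 h with h1 | h1
    · exact absurd h1 (invol_ne_one hv.invol)
    · exact absurd hv (U.pre.not_bad_of_mem h1.1.1)
  · exact h

include U hx ha hb hba in
/-- `CE` is transitive on the other points. -/
theorem CE_trans {p : Ω} (hp : p ≠ a) : ∃ c ∈ CE D x a, c • b = p := by
  obtain ⟨e₀, he₀, hep⟩ := exists_line U hx ha hp
  obtain ⟨s, hsC, hsx⟩ : ∃ s ∈ CE D x a, s * x * s⁻¹ = x * e₀ := by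
    rcases (U.mem_ES hx ha).1 he₀ with rfl | hd
    · exact ⟨1, one_mem _, by simp⟩
    · obtain ⟨s, hsa, hsc, hsx⟩ := U.pure x a hx ha e₀ hd
      refine ⟨s, mem_inf.2 ⟨hsa, mem_centralizer_iff.2 fun f hf => ?_⟩, hsx⟩
      exact (hsc f hf).symm.eq
  obtain ⟨hbad, hC⟩ := U.bad_mul_ES hx ha he₀
  have hfix : (x * e₀) • (s • b) = s • b := by
    rw [← hsx, smul_smul, inv_mul_cancel_right, mul_smul, hb]
  obtain ⟨e, he, hes⟩ := U.fix_eq hx ha hbad hC hfix
    (fun h => hba (MulAction.injective s (h.trans hsC.1.symm))) hep hp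
  exact ⟨e * s, mul_mem (U.ES_le_CE hx ha he) hsC, by rw [mul_smul, hes]⟩

include U hx ha in
/-- No labelling: the case `r = q + 1` is impossible. -/
theorem big_false {K : Type*} [Field K] [Finite K] [CharP K 2] {ι : K → G}
    (T : Torus D x a K ι) : False := by
  classical
  obtain ⟨b, hba, hb⟩ := U.exists_other hx ha
  haveI := U.faithful
  haveI := U.finite_pts
  haveI : Fact (Nat.Prime 2) := ⟨Nat.prime_two⟩
  have P := U.pre
  have hxC := U.self_mem_CE hx ha
  have hxx := invol_mul_self hx.invol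
  set C := CE D x a
  set E := ES D x a
  have hEC : E ≤ C := U.ES_le_CE hx ha
  have hEcomm : ∀ c ∈ C, ∀ e ∈ E, Commute c e := fun c hc e he => ((U.mem_CE hx ha).1 hc).2 e he
  -- the translation of an element
  have hβ : ∀ c ∈ C, x * (c * x * c⁻¹) ∈ E := fun c hc => bad_mem_CE U hx ha hb hba (bad_conj hx c)
    (mul_mem (mul_mem hc hxC) (inv_mem hc))
  set π : G → K := fun n => Function.invFun ι (x * (n * x * n⁻¹))
  have hπι : ∀ c ∈ C, ι (π c) = x * (c * x * c⁻¹) := fun c hc =>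
    Function.invFun_eq (exists_label U hx ha T (hβ c hc))
  have hπadd : ∀ n ∈ C, ∀ m ∈ C, π (n * m) = π n + π m := by
    intro n hn m hm
    refine T.inj ?_
    rw [T.map_add, hπι _ (mul_mem hn hm), hπι n hn, hπι m hm]
    calc x * (n * m * x * (n * m)⁻¹) = x * (n * (x * (x * (m * x * m⁻¹))) * n⁻¹) := by
          rw [← mul_assoc x x, hxx, one_mul]; group
      _ = x * (n * x * n⁻¹) * (n * (x * (m * x * m⁻¹)) * n⁻¹) := by group
      _ = _ := by rw [(hEcomm n hn _ (hβ m hm)).eq, mul_inv_cancel_right]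
  have hπ0 : ∀ n ∈ C, (π n = 0 ↔ Commute n x) := fun n hn => by
    rw [← T.inj.eq_iff, hπι n hn, T.map_zero, mul_eq_one_iff_inv_eq, invol_inv hx.invol]
    exact ⟨fun h => mul_inv_eq_iff_eq_mul.1 h.symm, fun h => (mul_inv_eq_iff_eq_mul.2 h.eq).symm⟩
  have hker : ∀ n ∈ C, π n = 0 → n ∈ E ∨ n * x ∈ E := fun n hn h => by
    have hc := (hπ0 n hn).1 h
    exact (cent_self U hx ha hb hba hn hc).imp id fun h' => hc.eq ▸ h'
  have hπE : ∀ e ∈ E, π e = 0 := fun e he => (hπ0 e (hEC he)).2 (U.ES_comm_self hx ha he)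
  have hπx : π x = 0 := (hπ0 x hxC).2 (Commute.refl x)
  have h11 : (1 : K) + 1 = 0 := CharTwo.add_self_eq_zero 1
  have hsq : ∀ n ∈ C, n * n ∈ E := fun n hn => by
    have h0 : π (n * n) = 0 := by rw [hπadd n hn n hn]; linear_combination π n * h11
    rcases hker _ (mul_mem hn hn) h0 with h | h
    · exact h
    · have h1 : Commute n (n * n * x) := hEcomm n hn _ h
      have h2 : Commute n x := by
        have h3 := ((Commute.refl n).mul_right (Commute.refl n)).inv_right.mul_right h1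
        rwa [inv_mul_cancel_left] at h3
      rcases cent_self U hx ha hb hba hn h2 with h4 | h4
      · rw [U.ES_mul_self hx ha h4]; exact one_mem E
      · have h5 := U.ES_mul_self hx ha h4
        rw [show x * n * (x * n) = x * (n * x) * n by group, h2.eq, ← mul_assoc x x, hxx,
          one_mul] at h5
        rw [h5]; exact one_mem E
  have hC2 : IsPGroup 2 C := fun n => ⟨2, Subtype.ext (by
    rw [Subgroup.coe_pow, Subgroup.coe_one]
    calc (n : G) ^ (2 ^ 2) = (n : G) * n * ((n : G) * n) := by simp [pow_succ, mul_assoc]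
      _ = 1 := U.ES_mul_self hx ha (hsq n n.2))⟩
  have hq := U.four_le
  obtain ⟨e₁, he₁⟩ : ∃ e, e ∈ memCent D x a := CountsB.exists_commute U.min x hx ha
  -- the Sylow subgroup
  obtain ⟨S, hCS⟩ := hC2.exists_le_sylow
  have hodd : Odd (Nat.card Ω) := by
    obtain ⟨i, hi⟩ := U.two_pow
    rw [card_points U]
    refine Even.add_one ?_
    rw [Nat.even_pow, hi, Nat.even_pow]
    exact ⟨⟨even_two, by rintro rfl; omega⟩, two_ne_zero⟩
  have hSa : ∀ s ∈ (S : Subgroup G), s • a = a := by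
    obtain ⟨p, hp⟩ := S.2.nonempty_fixed_point_of_prime_not_dvd_card Ω
      (Nat.two_dvd_ne_zero.2 (Nat.odd_iff.1 hodd))
    have he : e₁ • p = p := hp ⟨e₁, hCS (hEC (subset_closure he₁))⟩
    obtain rfl : p = a := P.eq_of_fix he₁.1.1 he he₁.1.2
    exact fun s hs => hp ⟨s, hs⟩
  have hbadN : ∀ v ∈ (S : Subgroup G), (∀ c ∈ C, v * c * v⁻¹ ∈ C) → Bad G Ω v →
      x * v ∈ E := by
    intro v hvS hvn hv
    obtain ⟨p, hpa, hvp⟩ := U.exists_other hv (hSa v hvS)
    obtain ⟨c, hc, hcb⟩ := CE_trans U hx ha hb hba hpa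
    set w := c⁻¹ * v * c with hw
    have hwb : Bad G Ω w := by
      have := bad_conj hv c⁻¹
      rwa [inv_inv] at this
    have hwfix : w • b = b := by rw [hw, mul_smul, mul_smul, hcb, hvp, ← hcb, inv_smul_smul]
    have hwa : w • a = a := hSa w (mul_mem (mul_mem (inv_mem (hCS hc)) hvS) (hCS hc))
    have h1 : w * x * w⁻¹ ∈ C := by
      have h2 := hvn _ (mul_mem (mul_mem hc hxC) (inv_mem hc))
      have h3 := mul_mem (mul_mem (inv_mem hc) h2) hc
      rwa [show c⁻¹ * (v * (c * x * c⁻¹) * v⁻¹) * c = w * x * w⁻¹ by rw [hw]; group] at h3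
    have h4 : w * x * w⁻¹ = x := by
      rcases inf_stab U hx ha hb hba h1 (by
        rw [mul_smul, mul_smul, inv_smul_eq_iff.2 hwfix.symm, hb, hwfix]) with h | h
      · exact absurd (conj_eq_one_iff.1 h) (invol_ne_one hx.invol)
      · exact h
    have h5 := eq_of_commute_bad U hba.symm hwb hx hwa hwfix ha hb (mul_inv_eq_iff_eq_mul.1 h4)
    rw [show v = c * x * c⁻¹ by rw [← h5, hw]; group]
    exact hβ c hc
  have hSC : ∀ s ∈ (S : Subgroup G), ∀ c ∈ C, s * c * s⁻¹ ∈ C := by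
    have hfix : ∀ s : G, s • a = a → (∀ e ∈ E, s⁻¹ * e * s ∈ E) → ∀ c ∈ C, s * c * s⁻¹ ∈ C := by
      intro s hsa hsE c hc
      refine (U.mem_CE hx ha).2 ⟨?_, fun e he => ?_⟩
      · rw [mul_smul, mul_smul, inv_smul_eq_iff.2 hsa.symm, hc.1, hsa]
      · have h := (Commute.conj_iff s).2 (hEcomm c hc _ (hsE e he))
        rwa [show s * (s⁻¹ * e * s) * s⁻¹ = e by group] at h
    by_contra hcon
    set N : Subgroup G := (S : Subgroup G) ⊓ normalizer (C : Set G)
    have hNS : N < (S : Subgroup G) := lt_of_le_of_ne inf_le_left fun e => hcon fun s hs c hc =>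
      (mem_normalizer_iff.1 (e.ge hs).2 c).1 hc
    haveI : Group.IsNilpotent (S : Subgroup G) := S.2.isNilpotent
    obtain ⟨s, hs, hsN⟩ := SetLike.exists_of_lt
      (Involutions.StronglyEmbedded.lt_inf_normalizer hNS)
    refine hsN (mem_inf.2 ⟨hs.1, ?_⟩)
    have hNn : ∀ v ∈ N, ∀ c ∈ C, v * c * v⁻¹ ∈ C := fun v hv c hc =>
      (mem_normalizer_iff.1 hv.2 c).1 hc
    have hC_N : C ≤ N := le_inf hCS le_normalizer
    have hmap : ∀ t : G, t ∈ normalizer (N : Set G) → ∀ e ∈ E, t * e * t⁻¹ ∈ E := by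
      intro t ht e he
      have key : ∀ f ∈ E, x * (t * (x * f) * t⁻¹) ∈ E := fun f hf => by
        have h1 : t * (x * f) * t⁻¹ ∈ N :=
          (mem_normalizer_iff.1 ht _).1 (hC_N (mul_mem hxC (hEC hf)))
        exact hbadN _ h1.1 (hNn _ h1) (bad_conj (U.bad_mul_ES hx ha hf).1 t)
      have h2 := mul_mem (inv_mem (key 1 (one_mem E))) (key e he)
      rwa [show (x * (t * (x * 1) * t⁻¹))⁻¹ * (x * (t * (x * e) * t⁻¹)) = t * e * t⁻¹ by group]
        at h2
    have hsa := hSa s hs.1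
    refine mem_normalizer_iff.2 fun c => ⟨fun hc => hfix s hsa
      (fun e he => by simpa using hmap _ (inv_mem hs.2) e he) c hc, fun hc => ?_⟩
    have h3 := hfix s⁻¹ (inv_smul_eq_iff.2 hsa.symm)
      (fun e he => by simpa using hmap _ hs.2 e he) _ hc
    rwa [inv_inv, show s⁻¹ * (s * c * s⁻¹) * s = c by group] at h3
  have hbadS : ∀ v ∈ (S : Subgroup G), Bad G Ω v → x * v ∈ E := fun v hv =>
    hbadN v hv (hSC v hv)
  -- the point stabiliser in it
  set R := (S : Subgroup G) ⊓ stabilizer G b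
  have hRA : R ≤ LF x a := by
    intro g hg
    refine mem_LF.2 ⟨hSa g hg.1, ?_⟩
    rcases inf_stab U hx ha hb hba (hSC g hg.1 x hxC) (by
      rw [mul_smul, mul_smul, inv_smul_eq_iff.2 (hg.2 : g • b = b).symm, hb, hg.2]) with h | h
    · exact absurd (conj_eq_one_iff.1 h) (invol_ne_one hx.invol)
    · exact mul_inv_eq_iff_eq_mul.1 h
  have hRcomm := comm_of_torus U hx ha T hRA (S.2.to_le inf_le_left) fun g hg hgC h hh => by
    rcases inf_stab U hx ha hb hba hgC hg.2 with rfl | rfl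
    · exact Commute.one_left h
    · exact (mem_LF.1 (hRA hh)).2.symm
  have hfac : ∀ s ∈ (S : Subgroup G), ∃ c ∈ C, ∃ r ∈ R, s = c * r := by
    intro s hs
    obtain ⟨c, hc, hcb⟩ := CE_trans U hx ha hb hba (p := s • b)
      (fun h => hba (MulAction.injective s (h.trans (hSa s hs).symm)))
    exact ⟨c, hc, c⁻¹ * s, mem_inf.2 ⟨mul_mem (inv_mem (hCS hc)) hs, by
      show (c⁻¹ * s) • b = b
      rw [mul_smul, ← hcb, inv_smul_smul]⟩, (mul_inv_cancel_left c s).symm⟩
  -- the invariant complement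
  have hsemi' : ∀ g ∈ LF x a, ∀ n ∈ C, ι (π (g * n * g⁻¹)) = g * ι (π n) * g⁻¹ := by
    intro g hg n hn
    rw [hπι _ (conj_CE U hx ha hg hn), hπι n hn]
    have hgx := (mem_LF.1 hg).2
    calc x * (g * n * g⁻¹ * x * (g * n * g⁻¹)⁻¹)
        = x * g * n * (g⁻¹ * x * g) * n⁻¹ * g⁻¹ := by group
      _ = g * (x * (n * x * n⁻¹)) * g⁻¹ := by
          rw [mul_assoc g⁻¹ x g, ← hgx.eq, inv_mul_cancel_left]; group
  obtain ⟨Q, hEQ, hQC, hxQ, hQor, hQinv⟩ := exists_complement hEC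
    (fun n hn z hz => by rwa [(hEcomm n hn z hz).eq, mul_inv_cancel_right]) hsq hxC
    (fun h => by
      rcases (U.mem_ES hx ha).1 h with h1 | h1
      · exact invol_ne_one hx.invol h1
      · exact U.pre.not_bad_of_mem h1.1.1 hx)
    π hπadd hπE hπx hker
    (fun z => by
      obtain ⟨p, hp⟩ : ∃ c ∈ C, x * (c * x * c⁻¹) = ι z := by
        rcases (U.mem_ES hx ha).1 (iota_mem U hx ha T z) with h | h
        · exact ⟨1, one_mem C, by simp [h, hxx]⟩
        · obtain ⟨s, hsa, hsc, hsx⟩ := U.pure x a hx ha _ h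
          refine ⟨s, mem_inf.2 ⟨hsa, mem_centralizer_iff.2 fun f hf => (hsc f hf).symm.eq⟩, ?_⟩
          rw [hsx, ← mul_assoc, hxx, one_mul]
      exact ⟨p, hp.1, T.inj ((hπι p hp.1).trans hp.2)⟩)
    (LF x a) (fun g hg n hn => conj_CE U hx ha hg hn) (fun g hg z hz => conj_ES U hx ha hg hz)
    (fun g hg => by
      rw [(mem_LF.1 hg).2.eq, mul_inv_cancel_right, mul_inv_cancel]; exact one_mem E)
    (fun g hg hfix n hn => by
      have hsurj : ∀ z, g * ι z * g⁻¹ = ι z := by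
        intro z
        obtain ⟨c, hc, hcz⟩ : ∃ c ∈ C, ι (π c) = ι z := by
          rcases (U.mem_ES hx ha).1 (iota_mem U hx ha T z) with h | h
          · exact ⟨1, one_mem C, by rw [hπι 1 (one_mem C)]; simp [h, hxx]⟩
          · obtain ⟨s, hsa, hsc, hsx⟩ := U.pure x a hx ha _ h
            refine ⟨s, mem_inf.2 ⟨hsa, mem_centralizer_iff.2 fun f hf => (hsc f hf).symm.eq⟩, ?_⟩
            rw [hπι _ (mem_inf.2 ⟨hsa, mem_centralizer_iff.2 fun f hf => (hsc f hf).symm.eq⟩), hsx,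
              ← mul_assoc, hxx, one_mul]
        rw [← hcz, ← hsemi' g hg c hc, hfix c hc]
      have hgC := mem_CE_of_fix U hx ha T (mem_LF.1 hg).1 hsurj
      rcases cent_self U hx ha hb hba hgC (mem_LF.1 hg).2 with h | h
      · rw [(hEcomm n hn g h).symm.eq, mul_inv_cancel_right, mul_inv_cancel]
        exact one_mem E
      · obtain ⟨e, he, rfl⟩ : ∃ e ∈ E, g = x * e :=
          ⟨x * g, h, by rw [← mul_assoc, hxx, one_mul]⟩
        have e1 : x * e * n * (x * e)⁻¹ * n⁻¹ = x * (n * x * n⁻¹) := by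
          rw [mul_assoc x e n, ← (hEcomm n hn e he).eq, mul_inv_rev, invol_inv hx.invol]
          group
        rw [e1]
        exact hβ n hn)
    (fun g hg => by
      obtain ⟨c, σ, hcs⟩ := T.semi g (mem_LF.1 hg).1 (mem_LF.1 hg).2
      exact ⟨c, σ, fun n hn => T.inj (by rw [hsemi' g hg n hn, hcs])⟩)
    (fun c hc => by
      obtain ⟨g, hga, hgx, hcg⟩ := T.scal c hc
      exact ⟨g, mem_LF.2 ⟨hga, hgx⟩, fun n hn => T.inj (by
        rw [hsemi' g (mem_LF.2 ⟨hga, hgx⟩) n hn, hcg])⟩)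
    (by
      by_contra hall
      push Not at hall
      have hle : Nat.card K ≤ 2 := by
        haveI := Fintype.ofFinite K
        rw [Nat.card_eq_fintype_card, ← Finset.card_univ]
        refine (Finset.card_le_card (show (Finset.univ : Finset K) ⊆ {0, 1} from fun z _ => ?_)).trans
          Finset.card_le_two
        by_cases hz : z = 0
        · simp [hz]
        · simp [hall z hz]
      have h1 : Nat.card E ≤ Nat.card K := Nat.card_le_card_of_surjective
        (fun z => (⟨ι z, iota_mem U hx ha T z⟩ : E)) fun e => by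
          obtain ⟨z, hz⟩ := exists_label U hx ha T e.2
          exact ⟨z, Subtype.ext hz⟩
      rw [U.card_ES hx ha] at h1
      omega)
  have hxS : x ∈ (S : Subgroup G) := hCS hxC
  have hxR : x ∈ R := mem_inf.2 ⟨hxS, hb⟩
  have hfacQ : ∀ s ∈ (S : Subgroup G), ∃ n ∈ Q, ∃ r ∈ R, s = n * r := by
    intro s hs
    obtain ⟨c, hc, r, hr, rfl⟩ := hfac s hs
    rcases hQor c hc with h | h
    · exact ⟨c, h, r, hr, rfl⟩
    · exact ⟨c * x, h, x * r, mul_mem hxR hr, by
        rw [← mul_assoc, mul_assoc c x x, hxx, mul_one]⟩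
  have hQn : ∀ s ∈ (S : Subgroup G), ∀ y ∈ Q, s * y * s⁻¹ ∈ Q := by
    intro s hs y hy
    obtain ⟨n, hn, r, hr, rfl⟩ := hfacQ s hs
    rw [show n * r * y * (n * r)⁻¹ = n * (r * y * r⁻¹) * n⁻¹ by group]
    exact mul_mem (mul_mem hn (hQinv r (hRA hr) y hy)) (inv_mem hn)
  have hQS : Q ≤ (S : Subgroup G) := hQC.trans hCS
  have hcomm : ∀ s ∈ (S : Subgroup G), ∀ t ∈ (S : Subgroup G), s * t * s⁻¹ * t⁻¹ ∈ Q := by
    intro s hs t ht
    obtain ⟨n, hn, r, hr, rfl⟩ := hfacQ s hs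
    obtain ⟨m, hm, r', hr', rfl⟩ := hfacQ t ht
    have e : n * r * (m * r') * (n * r)⁻¹ * (m * r')⁻¹ =
        n * (r * m * r⁻¹) * (r * r' * r⁻¹ * n⁻¹ * (r * r' * r⁻¹)⁻¹) *
          (r * r' * r⁻¹ * r'⁻¹) * m⁻¹ := by group
    rw [e, (hRcomm r hr r' hr').eq, mul_inv_cancel_right r' r, mul_inv_cancel, mul_one]
    exact mul_mem (mul_mem (mul_mem hn (hQinv r (hRA hr) m hm))
      (hQinv r' (hRA hr') _ (inv_mem hn))) (inv_mem hm)
  have hbadQ : ∀ v ∈ (S : Subgroup G), Bad G Ω v → v * x⁻¹ ∈ Q := by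
    intro v hv hvb
    have h := hbadS v hv hvb
    rw [show v * x⁻¹ = x * (x * v) * x⁻¹ by rw [← mul_assoc x x, hxx, one_mul],
      (hEcomm x hxC _ h).eq, mul_inv_cancel_right]
    exact hEQ h
  refine false_of_quot U.min S hQS hcomm (fun d hdS hdD => ?_) hxS hx hxQ hbadQ
  -- a member outside the complement
  by_contra hdQ
  have hda := hSa d hdS
  obtain ⟨n, hn, r, hr, hnr⟩ := hfacQ d hdS
  have hdd := invol_mul_self (U.min.act.invol d hdD)
  have hrr : r * r ∈ Q := by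
    have e : r * r = (r * n * r⁻¹)⁻¹ * n⁻¹ * (n * r * (n * r)) * 1 * 1 * 1 := by group
    rw [e, ← hnr, hdd, mul_one, mul_one, mul_one, mul_one]
    exact mul_mem (inv_mem (hQinv r (hRA hr) n hn)) (inv_mem hn)
  have hr1 : r = 1 ∨ r = x := by
    have hr2 : r * r = 1 := by
      rcases inf_stab U hx ha hb hba (hQC hrr) (show (r * r) • b = b by
        rw [mul_smul, show r • b = b from hr.2, show r • b = b from hr.2]) with h | h
      · exact h
      · exact absurd (h ▸ hrr) hxQ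
    by_cases h1 : r = 1
    · exact Or.inl h1
    · exact Or.inr (eq_of_commute_bad U hba.symm
        ⟨invol_iff.2 ⟨hr2, h1⟩, a, b, hba.symm, hSa r hr.1, hr.2⟩ hx (hSa r hr.1) hr.2 ha hb
        (mem_LF.1 (hRA hr)).2)
  have hrx : r = x := hr1.resolve_left fun h => hdQ (by rw [hnr, h, mul_one]; exact hn)
  rw [hrx] at hnr
  have hdC : d ∈ C := hnr ▸ mul_mem (hQC hn) hxC
  have hdxQ : d * x ∈ Q := by rw [hnr, mul_assoc, hxx, mul_one]; exact hn
  -- members outside `E` fill up a point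
  have hπd : π d ≠ 0 := by
    intro h0
    rcases hker d hdC h0 with h | h
    · exact hdQ (hEQ h)
    · refine U.pre.not_bad_of_mem hdD ?_
      have h1 := (U.bad_mul_ES hx ha h).1
      rwa [((hπ0 d hdC).1 h0).eq, ← mul_assoc, hxx, one_mul] at h1
  have hmem : ∀ z : K, z ≠ 0 → ∃ m, m ∈ memAt G D a ∧ m ∈ C ∧ m * x ∈ Q ∧ π m = z := by
    intro z hz
    obtain ⟨g, hga, hgx, hcg⟩ := T.scal (z / π d) (div_ne_zero hz hπd)
    have hgA : g ∈ LF x a := mem_LF.2 ⟨hga, hgx⟩
    refine ⟨g * d * g⁻¹, ?_, conj_CE U hx ha hgA hdC, ?_, ?_⟩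
    · have h1 := P.conj_mem_memAt (g := g) (a := a) ⟨hdD, hda⟩
      rwa [hga] at h1
    · have h1 := hQinv g hgA _ hdxQ
      rwa [show g * (d * x) * g⁻¹ = g * d * g⁻¹ * (g * x * g⁻¹) by group, hgx.eq,
        mul_inv_cancel_right] at h1
    · refine T.inj ?_
      rw [hsemi' g hgA d hdC, hcg, div_mul_cancel₀ _ hπd]
  choose m hm hmC hmQ hmπ using hmem
  have hin : ∀ (z : K) (hz : z ≠ 0) (e : G), e ∈ E → m z hz * e ∈ memAt G D a := by
    intro z hz e he
    rcases (U.mem_ES hx ha).1 he with rfl | hd'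
    · rw [mul_one]; exact hm z hz
    refine ⟨?_, by rw [mul_smul, hd'.1.2, (hm z hz).2]⟩
    refine U.min.act.mul_mem_D (hm z hz).1 hd'.1.1 (fun h => hz ?_) (hEcomm _ (hmC z hz) _ he)
    rw [← hmπ z hz, h, hπE e he]
  haveI := Fintype.ofFinite K
  have hπmul : ∀ (z : K) (hz : z ≠ 0) (e : G), e ∈ E → π (m z hz * e) = z := fun z hz e he => by
    rw [hπadd _ (hmC z hz) e (hEC he), hmπ, hπE e he, add_zero]
  let f : ({z : K // z ≠ 0} × E) ⊕ memCent D x a → memAt G D a := fun s => s.elim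
    (fun p => ⟨m p.1 p.1.2 * p.2, hin _ p.1.2 _ p.2.2⟩) fun e => ⟨e.1, e.2.1⟩
  have hf : Function.Injective f := by
    rintro (⟨z, e⟩ | e) (⟨z', e'⟩ | e') h
    · have h' : m z.1 z.2 * (e : G) = m z'.1 z'.2 * e' := congrArg Subtype.val h
      obtain rfl : z = z' := Subtype.ext (by
        rw [← hπmul z.1 z.2 e e.2, h', hπmul z'.1 z'.2 e' e'.2])
      rw [Subtype.ext (mul_left_cancel h')]
    · have h' : m z.1 z.2 * (e : G) = e' := congrArg Subtype.val h
      refine absurd ?_ z.2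
      rw [← hπmul z.1 z.2 e e.2, h', hπE _ (subset_closure e'.2)]
    · have h' : (e : G) = m z'.1 z'.2 * e' := congrArg Subtype.val h
      refine absurd ?_ z'.2
      rw [← hπmul z'.1 z'.2 e' e'.2, ← h', hπE _ (subset_closure e.2)]
    · have h' : (e : G) = e' := congrArg (fun t : memAt G D a => (t : G)) h
      rw [Subtype.ext h']
  have hcardK : Nat.card K = q := by
    rw [← U.card_ES hx ha]
    refine Nat.card_eq_of_bijective (fun z => (⟨ι z, iota_mem U hx ha T z⟩ : E))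
      ⟨fun z z' h => T.inj (congrArg Subtype.val h), fun e => ?_⟩
    obtain ⟨z, hz⟩ := exists_label U hx ha T e.2
    exact ⟨z, Subtype.ext hz⟩
  have hsurjf : Function.Surjective f := by
    refine ((Nat.bijective_iff_injective_and_card f).2 ⟨hf, ?_⟩).2
    have h0 : Nat.card {z : K // z ≠ 0} = q - 1 := by
      rw [Nat.card_eq_fintype_card, Fintype.card_subtype_compl, Fintype.card_subtype_eq,
        ← Nat.card_eq_fintype_card, hcardK]
    have h1 : Nat.card (memCent D x a) = q - 1 := Nat.eq_sub_of_add_eq (U.card_cent x a hx ha)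
    rw [U.card_mem, Nat.card_sum, Nat.card_prod, h0, U.card_ES hx ha, h1]
    ring
  have hallC : ∀ e ∈ memAt G D a, e ∈ C := by
    intro e he
    obtain ⟨s, hs⟩ := hsurjf ⟨e, he⟩
    rcases s with ⟨z, e'⟩ | e'
    · rw [← show m z.1 z.2 * (e' : G) = e from congrArg Subtype.val hs]
      exact mul_mem (hmC _ z.2) (hEC e'.2)
    · rw [← show (e' : G) = e from congrArg Subtype.val hs]
      exact hEC (subset_closure e'.2)
  have hallcomm : ∀ e ∈ memAt G D a, ∀ e' ∈ memAt G D a, Commute e e' := by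
    intro e he e' he'
    obtain ⟨g, hg⟩ := isConj_iff.1 (P.isConj_mem he₁.1.1 he.1)
    have hga : g • a = a := P.eq_of_fix he.1 (by
      rw [← hg, mul_smul, mul_smul, inv_smul_smul, he₁.1.2]) he.2
    have h1 : g⁻¹ * e' * g ∈ memAt G D a := by
      have h2 := P.conj_mem_memAt (g := g⁻¹) he'
      rwa [inv_inv, inv_smul_eq_iff.2 hga.symm] at h2
    have h3 := (Commute.conj_iff g).2 (hEcomm _ (hallC _ h1) _ (subset_closure he₁)).symm
    rwa [hg, show g * (g⁻¹ * e' * g) * g⁻¹ = e' by group] at h3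
  obtain ⟨c, hc0, hc1⟩ : ∃ c : K, c ≠ 0 ∧ c ≠ 1 := by
    obtain ⟨c, hc⟩ := Finset.exists_mem_notMem_of_card_lt_card (s := ({0, 1} : Finset K)) (t := Finset.univ)
      (lt_of_le_of_lt Finset.card_le_two (by rw [Finset.card_univ, ← Nat.card_eq_fintype_card, hcardK]; omega))
    simp only [Finset.mem_insert, Finset.mem_singleton, not_or, Finset.mem_univ, true_and] at hc
    exact ⟨c, hc.1, hc.2⟩
  have hcc : c + 1 ≠ 0 := fun h => hc1 (CharTwo.add_eq_zero.1 h)
  set d₁ := m c hc0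
  set d₂ := m 1 one_ne_zero
  set d₃ := m (c + 1) hcc
  have hne12 : d₁ ≠ d₂ := fun h => hc1 (by rw [← hmπ c hc0, ← hmπ 1 one_ne_zero]; exact congrArg π h)
  have hp : d₁ * d₂ ∈ memAt G D a := ⟨U.min.act.mul_mem_D (hm c hc0).1 (hm 1 one_ne_zero).1 hne12
    (hallcomm _ (hm c hc0) _ (hm 1 one_ne_zero)), by
      rw [mul_smul, (hm 1 one_ne_zero).2, (hm c hc0).2]⟩
  have hpC : d₁ * d₂ ∈ C := mul_mem (hmC c hc0) (hmC 1 one_ne_zero)
  have hpQ : d₁ * d₂ ∈ Q := by
    have h1 := mul_mem (hmQ c hc0) (hQn x hxS _ (hmQ 1 one_ne_zero))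
    rwa [show d₁ * x * (x * (d₂ * x) * x⁻¹) = d₁ * (x * x) * d₂ by group, hxx, mul_one] at h1
  have hv : d₁ * d₂ * d₃ * x ∈ Q := by rw [mul_assoc]; exact mul_mem hpQ (hmQ _ hcc)
  have hπp : π (d₁ * d₂ * d₃) = 0 := by
    rw [hπadd _ hpC _ (hmC _ hcc), hπadd _ (hmC c hc0) _ (hmC 1 one_ne_zero), hmπ, hmπ, hmπ]
    exact CharTwo.add_self_eq_zero _
  have hne : d₁ * d₂ ≠ d₃ := fun h => hxQ (by
    have h1 := mul_mem (inv_mem hpQ) (hmQ _ hcc)
    change (d₁ * d₂)⁻¹ * (d₃ * x) ∈ Q at h1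
    rwa [h, inv_mul_cancel_left] at h1)
  have hmem3 := U.min.act.mul_mem_D hp.1 (hm _ hcc).1 hne (hallcomm _ hp _ (hm _ hcc))
  rcases hker _ (mul_mem hpC (hmC _ hcc)) hπp with h | h
  · refine hxQ ?_
    have h1 := mul_mem (inv_mem (hEQ h)) hv
    rwa [inv_mul_cancel_left] at h1
  · refine U.pre.not_bad_of_mem hmem3 ?_
    have h0 := (hπ0 _ (mul_mem hpC (hmC _ hcc))).1 hπp
    have h1 := (U.bad_mul_ES hx ha h).1
    rwa [h0.eq, ← mul_assoc, hxx, one_mul] at h1

end Cfsg.Agent.Lib.Crit5.KillOne
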