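import Cfsg.Agent.Lib.Crit5.KillOne.Semi
import Cfsg.Agent.Lib.Crit5.KillOne.Transfer

/-!
# The single fixed point criterion, type one with `r = 1`: local structure

All members at `a` centralise every bad involution fixing `a`.  The elements of `CE` whose
commutator with `x` is a member form a group `Mx`; counting its fixed points shows that its
part fixing the line of `x` is `⟨x⟩` and that each member is the commutator of `x` with a bad
involution of `Mx`.
Owner: helper67.
-/

set_option autoImplicit false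
set_option linter.style.haveILetI false
set_option linter.unusedSectionVars false

namespace Cfsg.Agent.Lib.Crit5.KillOne

open MulAction Subgroup Cfsg.Agent.Lib.Involutions.Basic
open Cfsg.Agent.Lib.Crit8 (Action Pre Bad memAt memSwap)

universe u

variable {G Ω : Type u} [Group G] [MulAction G Ω] [Finite G] {D : Set G} {q : ℕ}
  (U : Uni D Ω q 1) {x : G} {a b : Ω} (hx : Bad G Ω x) (ha : x • a = a) (hb : x • b = b)
  (hba : b ≠ a)

include U in
theorem one_card_points : Nat.card Ω = q ^ 3 + 1 := by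
  have h := U.count
  have h4 := U.four_le
  rw [mul_one] at h
  obtain ⟨j, rfl⟩ : ∃ j, q = j + 1 := ⟨q - 1, by omega⟩
  simp only [Nat.add_sub_cancel] at h
  have h1 : Nat.card Ω - 1 = (j + 1) ^ 3 := h.trans (by ring)
  have : 0 < Nat.card Ω - 1 := by rw [h1]; positivity
  omega

include U hx ha in
theorem memAt_eq : memAt G D a = memCent D x a := by
  refine (Set.eq_of_subset_of_ncard_le (fun d hd => hd.1) ?_ (Set.toFinite _)).symm
  rw [← Nat.card_coe_set_eq, ← Nat.card_coe_set_eq, U.card_mem, mul_one,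
    ← Nat.eq_sub_of_add_eq (U.card_cent x a hx ha)]

include U hx ha in
theorem mem_ES_of_memAt {d : G} (hd : d ∈ memAt G D a) : d ∈ ES D x a :=
  subset_closure (memAt_eq U hx ha ▸ hd)

include U hx ha in
/-- Every bad involution fixing `a` centralises the members of `x`. -/
theorem bad_mem {w : G} (hw : Bad G Ω w) (hwa : w • a = a) : w ∈ CE D x a := by
  refine mem_inf.2 ⟨hwa, mem_centralizer_iff.2 fun d hd => ?_⟩
  have h : d ∈ memCent D w a := memAt_eq U hw hwa ▸ hd.1
  exact h.2.eq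

include U hx ha in
theorem conj_ES_stab {g : G} (hg : g • a = a) {e : G} (he : e ∈ ES D x a) :
    g * e * g⁻¹ ∈ ES D x a := by
  rcases (U.mem_ES hx ha).1 he with rfl | hd
  · simp
  · refine mem_ES_of_memAt U hx ha ?_
    have h1 := U.pre.conj_mem_memAt (g := g) hd.1
    rwa [hg] at h1

include U hx ha in
theorem conj_CE_stab {g : G} (hg : g • a = a) {c : G} (hc : c ∈ CE D x a) :
    g * c * g⁻¹ ∈ CE D x a := by
  refine (U.mem_CE hx ha).2 ⟨?_, fun e he => ?_⟩
  · rw [mul_smul, mul_smul, inv_smul_eq_iff.2 hg.symm, hc.1, hg]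
  · have h1 : g⁻¹ * e * g ∈ ES D x a := by
      simpa using conj_ES_stab U hx ha (inv_smul_eq_iff.2 hg.symm) he
    have h2 := ((U.mem_CE hx ha).1 hc).2 _ h1
    have h3 : Commute (g * c * g⁻¹) (g * (g⁻¹ * e * g) * g⁻¹) := (Commute.conj_iff g).2 h2
    rwa [show g * (g⁻¹ * e * g) * g⁻¹ = e by group] at h3

include U in
/-- An element centralising a bad involution and fixing all its fixed points has square one. -/
theorem sq_one {v : G} (hv : Bad G Ω v) {y : G} (hy : Commute y v)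
    (hfix : ∀ p : Ω, v • p = p → y • p = p) : y * y = 1 := by
  haveI := U.faithful
  have P := U.pre
  -- `y` centralises the members at the fixed points
  have hC : ∀ p : Ω, v • p = p → y ∈ CE D v p := by
    intro p hp
    refine mem_inf.2 ⟨hfix p hp, mem_centralizer_iff.2 fun d hd => ?_⟩
    have hd' : y * d * y⁻¹ ∈ memCent D v p := by
      have h1 := CountsB.conj_memCent U.min (g := y) hd
      rwa [hy.eq, mul_inv_cancel_right, hfix p hp] at h1
    have he := mul_mem (subset_closure hd : d ∈ ES D v p) (subset_closure hd' : _ ∈ ES D v p)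
    obtain ⟨s, hsp, hvs⟩ := U.exists_other hv hp
    have h1 : (d * (y * d * y⁻¹)) • s = s := by
      have hys : y⁻¹ • s = s := inv_smul_eq_iff.2 (hfix s hvs).symm
      have hds : v • (d • s) = d • s := by rw [smul_smul, ← hd.2.eq, mul_smul, hvs]
      rw [mul_smul, mul_smul, mul_smul, hys, hfix _ hds, smul_smul,
        invol_mul_self (P.invol d hd.1.1), one_smul]
    have h2 := U.ES_free hv hp he h1 hsp
    have h3 : y * d * y⁻¹ = d :=
      (inv_eq_of_mul_eq_one_right h2).symm.trans (invol_inv (P.invol d hd.1.1))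
    exact (mul_inv_eq_iff_eq_mul.1 h3).symm
  refine U.min.faithful.eq_of_smul_eq_smul fun c => ?_
  rw [one_smul]
  by_cases hc : v • c = c
  · rw [mul_smul, hfix c hc, hfix c hc]
  obtain ⟨f, hf, hfv⟩ := P.exists_swap_commute hv.invol (Ne.symm hc) (Or.inr rfl)
  obtain ⟨p, hp⟩ := (P.one f hf.1).exists
  have hvp : v • p = p := P.smul_eq_of_commute hf.1 hp hfv
  have hfE : f ∈ ES D v p := subset_closure ⟨⟨hf.1, hp⟩, hfv⟩
  obtain ⟨hw, hwC⟩ := U.bad_mul_ES hv hvp hfE
  have hwc : (v * f) • c = c := by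
    rw [mul_smul, hf.2, smul_smul, invol_mul_self hv.invol, one_smul]
  have hcp : c ≠ p := fun h => hc (h ▸ hvp)
  exact U.sq_smul hv hvp (hC p hvp) (U.shift hv hvp hw hwC (hC p hvp)
    (hy.mul_right (((U.mem_CE hv hvp).1 (hC p hvp)).2 f hfE)) hwc hcp)

/-- The part of `CE` centralising `x` and fixing `b`. -/
def Vx (D : Set G) (x : G) (a b : Ω) : Subgroup G := CE D x a ⊓ stabilizer G b ⊓ centralizer {x}

theorem mem_Vx {y : G} :
    y ∈ Vx D x a b ↔ y ∈ CE D x a ∧ y • b = b ∧ Commute y x :=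
  ⟨fun h => ⟨h.1.1, h.1.2, mem_centralizer_singleton_iff.1 h.2⟩,
    fun h => ⟨⟨h.1, h.2.1⟩, mem_centralizer_singleton_iff.2 h.2.2.eq⟩⟩

include U hx ha hb hba in
theorem Vx_fix {y : G} (hy : y ∈ Vx D x a b) {p : Ω} (hp : x • p = p) : y • p = p := by
  obtain ⟨hyC, hyb, -⟩ := mem_Vx.1 hy
  rcases eq_or_ne p a with rfl | hpa
  · exact hyC.1
  · obtain ⟨e, he, rfl⟩ := U.fix_eq hx ha hx (U.self_mem_CE hx ha) hb hba hp hpa
    rw [smul_smul, (((U.mem_CE hx ha).1 hyC).2 e he).eq, mul_smul, hyb]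

include U hx ha hb hba in
theorem Vx_sq {y : G} (hy : y ∈ Vx D x a b) : y * y = 1 :=
  sq_one U hx (mem_Vx.1 hy).2.2 fun _ hp => Vx_fix U hx ha hb hba hy hp

include U hx ha hb hba in
theorem Vx_comm {y z : G} (hy : y ∈ Vx D x a b) (hz : z ∈ Vx D x a b) : Commute y z := by
  have h1 := Vx_sq U hx ha hb hba hy
  have h2 := Vx_sq U hx ha hb hba hz
  have h3 := inv_eq_of_mul_eq_one_right (Vx_sq U hx ha hb hba (mul_mem hy hz))
  rw [mul_inv_rev, inv_eq_of_mul_eq_one_right h1, inv_eq_of_mul_eq_one_right h2] at h3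
  exact h3.symm

include U hx ha hb hba in
theorem Vx_bad {y : G} (hy : y ∈ Vx D x a b) (hy1 : y ≠ 1) : Bad G Ω y :=
  ⟨invol_iff.2 ⟨Vx_sq U hx ha hb hba hy, hy1⟩, a, b, hba.symm, (mem_Vx.1 hy).1.1,
    (mem_Vx.1 hy).2.1⟩

include U hx ha hb in
theorem self_mem_Vx : x ∈ Vx D x a b := mem_Vx.2 ⟨U.self_mem_CE hx ha, hb, Commute.refl x⟩

include U hx ha hb hba in
/-- The centraliser of `x` in `CE`. -/
theorem cent_split {y : G} (hy : y ∈ CE D x a) (hyx : Commute y x) :
    ∃ e ∈ ES D x a, e * y ∈ Vx D x a b := by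
  obtain ⟨e, he, hep⟩ := U.shift hx ha hx (U.self_mem_CE hx ha) hy hyx hb hba
  exact ⟨e, he, mem_Vx.2 ⟨mul_mem (U.ES_le_CE hx ha he) hy,
    by rw [mul_smul, ← hep, smul_smul, U.ES_mul_self hx ha he, one_smul],
    (U.ES_comm_self hx ha he).mul_left hyx⟩⟩

include U hx ha hb hba in
theorem sq_of_cent {y : G} (hy : y ∈ CE D x a) (hyx : Commute y x) : y * y = 1 := by
  obtain ⟨e, he, hev⟩ := cent_split U hx ha hb hba hy hyx
  have h := Vx_sq U hx ha hb hba hev
  have hc : Commute y e := ((U.mem_CE hx ha).1 hy).2 e he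
  rwa [show e * y * (e * y) = e * (y * e) * y by group, hc.eq, ← mul_assoc e e,
    U.ES_mul_self hx ha he, one_mul] at h

/-- The commutator with `x`. -/
def bet (x s : G) : G := x * (s * x * s⁻¹)

include U hx ha in
theorem bet_mul {s t : G} (hs : s ∈ CE D x a) (ht : bet x t ∈ ES D x a) :
    bet x (s * t) = bet x s * bet x t := by
  have hxx := invol_mul_self hx.invol
  unfold bet at ht ⊢
  calc x * (s * t * x * (s * t)⁻¹) = x * (s * (x * (x * (t * x * t⁻¹))) * s⁻¹) := by
        rw [← mul_assoc x x, hxx, one_mul]; group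
    _ = x * (s * x * s⁻¹) * (s * (x * (t * x * t⁻¹)) * s⁻¹) := by group
    _ = _ := by rw [((U.mem_CE hx ha).1 hs).2 _ ht |>.eq, mul_inv_cancel_right]

include hx in
theorem bet_eq_one {s : G} : bet x s = 1 ↔ Commute s x := by
  unfold bet
  rw [mul_eq_one_iff_inv_eq, invol_inv hx.invol]
  exact ⟨fun h => mul_inv_eq_iff_eq_mul.1 h.symm, fun h => (mul_inv_eq_iff_eq_mul.2 h.eq).symm⟩

include hx in
theorem bet_of_commute {s : G} (h : Commute s x) : bet x s = 1 := (bet_eq_one hx).2 h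

/-- The elements of `CE` whose commutator with `x` is a member. -/
def Mx (U : Uni D Ω q 1) (hx : Bad G Ω x) (ha : x • a = a) : Subgroup G where
  carrier := {s | s ∈ CE D x a ∧ bet x s ∈ ES D x a}
  one_mem' := ⟨one_mem _, by rw [bet_of_commute hx (Commute.one_left x)]; exact one_mem _⟩
  mul_mem' := fun {s t} hs ht => ⟨mul_mem hs.1 ht.1, by
    rw [bet_mul U hx ha hs.1 ht.2]; exact mul_mem hs.2 ht.2⟩
  inv_mem' := fun {s} hs => ⟨inv_mem hs.1, by
    have h1 := ((U.mem_CE hx ha).1 (inv_mem hs.1)).2 _ hs.2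
    have e : bet x s⁻¹ = x * (s⁻¹ * bet x s * s) * x⁻¹ := by
      unfold bet
      rw [invol_inv hx.invol]
      calc x * (s⁻¹ * x * s⁻¹⁻¹) = x * (s⁻¹ * x * s) * (x * x) := by
            rw [invol_mul_self hx.invol, mul_one, inv_inv]
        _ = x * (s⁻¹ * (x * (s * x * s⁻¹)) * s) * x := by group
    rw [e, h1.eq, inv_mul_cancel_right,
      ((U.mem_CE hx ha).1 (U.self_mem_CE hx ha)).2 _ hs.2 |>.eq, mul_inv_cancel_right]
    exact hs.2⟩

theorem mem_Mx {s : G} :
    s ∈ Mx U hx ha ↔ s ∈ CE D x a ∧ bet x s ∈ ES D x a := Iff.rfl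

theorem Mx_le : Mx U hx ha ≤ CE D x a := fun _ h => h.1

include U hx ha in
theorem ES_le_Mx : ES D x a ≤ Mx U hx ha := fun _ he =>
  ⟨U.ES_le_CE hx ha he, by
    rw [bet_of_commute hx (U.ES_comm_self hx ha he)]; exact one_mem _⟩

include U hx ha in
theorem self_mem_Mx : x ∈ Mx U hx ha :=
  ⟨U.self_mem_CE hx ha, by rw [bet_of_commute hx (Commute.refl x)]; exact one_mem _⟩

include U hx ha in
theorem Vx_le_Mx : Vx D x a b ≤ Mx U hx ha := fun _ hy =>
  ⟨(mem_Vx.1 hy).1, by rw [bet_of_commute hx (mem_Vx.1 hy).2.2]; exact one_mem _⟩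

include U hx ha hb hba in
/-- An element of `Mx` moving `x` moves every nontrivial element of `Vx` by a nontrivial member. -/
theorem conj_Vx {s : G} (hs : s ∈ Mx U hx ha) {v : G} (hv : v ∈ Vx D x a b) :
    ∃ e ∈ ES D x a, s * v * s⁻¹ = v * e ∧ (bet x s ≠ 1 → v ≠ 1 → e ≠ 1) := by
  obtain ⟨hsC, hsd⟩ := hs
  obtain ⟨hvC, hvb, hvx⟩ := mem_Vx.1 hv
  have hxx := invol_mul_self hx.invol
  set d := bet x s with hd
  have hsx : s * x * s⁻¹ = x * d := by rw [hd, bet, ← mul_assoc x x, hxx, one_mul]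
  by_cases hd1 : d = 1
  · obtain ⟨e, he, hes⟩ := cent_split U hx ha hb hba hsC ((bet_eq_one hx).1 hd1)
    refine ⟨1, one_mem _, ?_, fun h => absurd hd1 h⟩
    have h1 := Vx_comm U hx ha hb hba hes hv
    have h2 : Commute s v := by
      have h3 := (((U.mem_CE hx ha).1 hvC).2 e he).symm.inv_left.mul_left h1
      rwa [inv_mul_cancel_left] at h3
    rw [h2.eq, mul_inv_cancel_right, mul_one]
  set v' := s * v * s⁻¹ with hv'
  have hv'C : v' ∈ CE D x a := mul_mem (mul_mem hsC hvC) (inv_mem hsC)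
  have hv'x : Commute v' x := by
    have h1 : Commute v' (x * d) := hsx ▸ (Commute.conj_iff s).2 hvx
    have h2 := h1.mul_right (((U.mem_CE hx ha).1 hv'C).2 d hsd)
    rwa [mul_assoc, U.ES_mul_self hx ha hsd, mul_one] at h2
  obtain ⟨e, he, hev⟩ := cent_split U hx ha hb hba hv'C hv'x
  set v'' := e * v'
  -- the two other lines
  set p₁ := s • b
  have hp₁ : p₁ ≠ a := fun h => hba (MulAction.injective s (h.trans hsC.1.symm))
  have hxp₁ : (x * d) • p₁ = p₁ := by
    rw [← hsx, smul_smul, inv_mul_cancel_right, mul_smul, hb]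
  have hv'p₁ : v' • p₁ = p₁ := by
    rw [hv', smul_smul, inv_mul_cancel_right, mul_smul, hvb]
  obtain ⟨hbad₁, hC₁⟩ := U.bad_mul_ES hx ha hsd
  obtain ⟨f, hf, hfv⟩ := U.shift hx ha hbad₁ hC₁ hvC
    (hvx.mul_right (((U.mem_CE hx ha).1 hvC).2 d hsd)) hxp₁ hp₁
  set p₂ := s • p₁
  have hxp₂ : x • p₂ = p₂ := by
    have h1 : s * (x * d) * s⁻¹ = x := by
      rw [show s * (x * d) * s⁻¹ = s * x * s⁻¹ * (s * d * s⁻¹) by group, hsx,
        (((U.mem_CE hx ha).1 hsC).2 d hsd).eq, mul_inv_cancel_right, mul_assoc,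
        U.ES_mul_self hx ha hsd, mul_one]
    calc x • p₂ = (s * (x * d) * s⁻¹) • p₂ := by rw [h1]
      _ = p₂ := by rw [smul_smul, inv_mul_cancel_right, mul_smul, hxp₁]
  have hp₂ : p₂ ≠ a := fun h => hp₁ (MulAction.injective s (h.trans hsC.1.symm))
  have hfe : e = f := by
    refine U.ES_smul_inj hx ha he hf hp₂ ?_
    have h1 : v'' • p₂ = p₂ := Vx_fix U hx ha hb hba hev hxp₂
    have h2 : v' • p₂ = f • p₂ := by
      rw [hv', smul_smul, inv_mul_cancel_right, mul_smul, ← hfv, smul_smul,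
        (((U.mem_CE hx ha).1 hsC).2 f hf).eq, mul_smul]
    rw [mul_smul, h2, smul_smul] at h1
    calc e • p₂ = e • ((e * f) • p₂) := by rw [h1]
      _ = f • p₂ := by rw [smul_smul, ← mul_assoc, U.ES_mul_self hx ha he, one_mul]
  have hfix : ∀ y ∈ Vx D x a b, y • p₁ = p₁ → y = 1 := by
    intro y hy hyp
    by_contra hy1
    have hyb := Vx_bad U hx ha hb hba hy hy1
    obtain ⟨g, hg, hgp⟩ := U.fix_eq hx ha hyb (mem_Vx.1 hy).1 (mem_Vx.1 hy).2.1 hba hyp hp₁
    have hxp : x • p₁ = p₁ := by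
      rw [← hgp, smul_smul, ← (U.ES_comm_self hx ha hg).eq, mul_smul, hb]
    refine hd1 (U.ES_free hx ha hsd ?_ hp₁)
    refine MulAction.injective x ?_
    show x • d • p₁ = x • p₁
    rw [← mul_smul, hxp₁, hxp]
  have hvv : v'' = v := by
    refine eq_of_inv_mul_eq_one ((?_ : v''⁻¹ * v = 1))
    refine hfix _ (mul_mem (inv_mem hev) hv) ?_
    rw [mul_smul, inv_smul_eq_iff, mul_smul, hv'p₁, hfe, hfv]
  refine ⟨e, he, ?_, fun _ hv1 he1 => hv1 (hfix v hv ?_)⟩
  · rw [← hvv, ← (((U.mem_CE hx ha).1 (mem_Vx.1 hev).1).2 e he).symm.eq, ← mul_assoc,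
      U.ES_mul_self hx ha he, one_mul]
  · rw [← hfv, ← hfe, he1, one_smul]

include U hx ha hb hba in
theorem Mx_sq {s : G} (hs : s ∈ Mx U hx ha) : s * s ∈ ES D x a := by
  by_cases hd1 : bet x s = 1
  · rw [sq_of_cent U hx ha hb hba hs.1 ((bet_eq_one hx).1 hd1)]
    exact one_mem _
  have h2 : bet x (s * s) = 1 := by
    rw [bet_mul U hx ha hs.1 hs.2, U.ES_mul_self hx ha hs.2]
  obtain ⟨e, he, hev⟩ := cent_split U hx ha hb hba (mul_mem hs.1 hs.1) ((bet_eq_one hx).1 h2)
  obtain ⟨f, hf, hsf, hne⟩ := conj_Vx U hx ha hb hba hs hev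
  have h3 : s * (e * (s * s)) * s⁻¹ = e * (s * s) := by
    rw [← mul_assoc s e, (((U.mem_CE hx ha).1 hs.1).2 e he).eq]; group
  have h4 : e * (s * s) = 1 := by
    by_contra h
    exact hne hd1 h (mul_eq_left.1 (h3 ▸ hsf).symm)
  rw [eq_inv_of_mul_eq_one_right h4]
  exact inv_mem he

include U hx ha hb hba in
theorem Mx_comm {s t : G} (hs : s ∈ Mx U hx ha) (ht : t ∈ Mx U hx ha) :
    s * t * s⁻¹ * t⁻¹ ∈ ES D x a := by
  have h1 := Mx_sq U hx ha hb hba (mul_mem hs ht)
  have h2 := Mx_sq U hx ha hb hba hs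
  have h3 := Mx_sq U hx ha hb hba ht
  have e : s * t * s⁻¹ * t⁻¹ = s * t * (s * t) * (t⁻¹ * (s * s)⁻¹ * t) * (t * t)⁻¹ := by group
  rw [e, (((U.mem_CE hx ha).1 (inv_mem ht.1)).2 _ (inv_mem h2)).eq, inv_mul_cancel_right]
  exact mul_mem (mul_mem h1 (inv_mem h2)) (inv_mem h3)

include U hx ha hb hba in
/-- The bad involutions of `Mx` have the same group. -/
theorem Mx_eq {w : G} (hw : Bad G Ω w) (hwM : w ∈ Mx U hx ha) :
    Mx U hw hwM.1.1 = Mx U hx ha := by
  have hE := U.ES_eq hx ha hw hwM.1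
  have hC := U.CE_eq hx ha hw hwM.1
  have hle : Mx U hx ha ≤ Mx U hw hwM.1.1 := by
    intro s hs
    refine ⟨hC.symm ▸ hs.1, ?_⟩
    have h := Mx_comm U hx ha hb hba hwM hs
    rw [hE]
    unfold bet
    rwa [invol_inv hw.invol, show w * s * w * s⁻¹ = w * (s * w * s⁻¹) by group] at h
  refine le_antisymm (fun s hs => ?_) hle
  obtain ⟨c, hca, hwc⟩ := U.exists_other hw hwM.1.1
  have h := Mx_comm U hw hwM.1.1 hwc hca (hle (self_mem_Mx U hx ha)) hs
  refine ⟨hC ▸ hs.1, ?_⟩
  unfold bet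
  rwa [invol_inv hx.invol, show x * s * x * s⁻¹ = x * (s * x * s⁻¹) by group, hE] at h

include U hx ha hb hba in
theorem card_Mx : Nat.card (Mx U hx ha) = q * (q * Nat.card (Vx D x a b)) := by
  let β : Mx U hx ha →* ES D x a :=
    MonoidHom.mk' (fun s => ⟨bet x s, s.2.2⟩) fun s t => Subtype.ext (bet_mul U hx ha s.2.1 t.2.2)
  have hsurj : Function.Surjective β := by
    rintro ⟨d, hd⟩
    rcases (U.mem_ES hx ha).1 hd with rfl | hdm
    · exact ⟨1, map_one β⟩
    · obtain ⟨s, hsa, hsc, hsx⟩ := U.pure x a hx ha d hdm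
      have hb' : bet x s = d := by
        rw [bet, hsx, ← mul_assoc, invol_mul_self hx.invol, one_mul]
      exact ⟨⟨s, mem_inf.2 ⟨hsa, mem_centralizer_iff.2 fun f hf => (hsc f hf).symm.eq⟩,
        by rw [hb']; exact hd⟩, Subtype.ext hb'⟩
  rw [← β.ker.card_mul_index, Subgroup.index_ker, MonoidHom.range_eq_top.2 hsurj, Subgroup.card_top,
    U.card_ES hx ha, mul_comm]
  congr 1
  refine Eq.trans ?_ (congrArg (fun n => n * Nat.card (Vx D x a b)) (U.card_ES hx ha))
  show Nat.card β.ker = Nat.card (ES D x a) * Nat.card (Vx D x a b)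
  rw [← Nat.card_prod]
  refine (Nat.card_eq_of_bijective (fun p : ES D x a × Vx D x a b =>
    (⟨⟨(p.1 : G) * p.2, mul_mem (ES_le_Mx U hx ha p.1.2) (Vx_le_Mx U hx ha p.2.2)⟩, ?_⟩ : β.ker))
    ⟨?_, ?_⟩).symm
  · refine Subtype.ext ?_
    show bet x ((p.1 : G) * p.2) = 1
    exact bet_of_commute hx ((U.ES_comm_self hx ha p.1.2).mul_left (mem_Vx.1 p.2.2).2.2)
  · rintro ⟨e, v⟩ ⟨e', v'⟩ h
    have h' : (e : G) * v = e' * v' := congrArg (fun t : β.ker => ((t : Mx U hx ha) : G)) h
    have h1 : (e : G) • b = (e' : G) • b := by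
      calc (e : G) • b = ((e : G) * v) • b := by rw [mul_smul, (mem_Vx.1 v.2).2.1]
        _ = (e' : G) • b := by rw [h', mul_smul, (mem_Vx.1 v'.2).2.1]
    obtain rfl : e = e' := Subtype.ext (U.ES_smul_inj hx ha e.2 e'.2 hba h1)
    exact Prod.ext rfl (Subtype.ext (mul_left_cancel h'))
  · rintro ⟨⟨s, hs⟩, hker⟩
    obtain ⟨e, he, hev⟩ := cent_split U hx ha hb hba hs.1
      ((bet_eq_one hx).1 (congrArg Subtype.val hker))
    exact ⟨(⟨e, he⟩, ⟨e * s, hev⟩), Subtype.ext (Subtype.ext (by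
      show e * (e * s) = s
      rw [← mul_assoc, U.ES_mul_self hx ha he, one_mul]))⟩

include U hx ha hb hba in
/-- Bad involutions of `Mx` with equal commutator differ by a member. -/
theorem bad_same {w w' : G} (hw : Bad G Ω w) (hwM : w ∈ Mx U hx ha) (hw' : Bad G Ω w')
    (hwM' : w' ∈ Mx U hx ha) (h : bet x w = bet x w') (hne : bet x w ≠ 1) :
    w * w' ∈ ES D x a := by
  have hk : bet x (w * w') = 1 := by
    rw [bet_mul U hx ha hwM.1 hwM'.2, h, U.ES_mul_self hx ha hwM'.2]
  obtain ⟨e, he, hev⟩ := cent_split U hx ha hb hba (mul_mem hwM.1 hwM'.1) ((bet_eq_one hx).1 hk)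
  set v := e * (w * w') with hv
  obtain ⟨f, hf, hwf, hfne⟩ := conj_Vx U hx ha hb hba hwM hev
  have hv1 : v = 1 := by
    by_contra h1
    refine hfne hne h1 ?_
    have hww := invol_mul_self hw.invol
    have hw2 := invol_mul_self hw'.invol
    have hec : Commute e w := (((U.mem_CE hx ha).1 hwM.1).2 e he).symm
    have hec' : Commute e w' := (((U.mem_CE hx ha).1 hwM'.1).2 e he).symm
    have h2 : w * v * w⁻¹ = e * (w' * w) := by
      rw [hv, invol_inv hw.invol, ← mul_assoc w e, ← hec.eq,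
        show e * w * (w * w') * w = e * (w * w) * w' * w by group, hww, mul_one, mul_assoc]
    have hvv := Vx_sq U hx ha hb hba hev
    have h3 : e * (w' * w) = v := by
      rw [← inv_eq_of_mul_eq_one_right hvv]
      simp only [hv, mul_inv_rev, invol_inv hw.invol, invol_inv hw'.invol, U.ES_inv hx ha he]
      exact (hec'.mul_right hec).eq
    rw [h2, h3] at hwf
    exact mul_eq_left.1 hwf.symm
  have h' : e * (w * w') = 1 := hv.symm.trans hv1
  rw [eq_inv_of_mul_eq_one_right h']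
  exact inv_mem he

include U hx ha hb hba in
theorem bad_same_one {w : G} (hw : Bad G Ω w) (hwM : w ∈ Mx U hx ha) (h : bet x w = 1) :
    ∃ e ∈ ES D x a, e * w ∈ Vx D x a b :=
  cent_split U hx ha hb hba hwM.1 ((bet_eq_one hx).1 h)

include U hx ha hb hba in
/-- **The count**: `Vx` has order two and every member is a commutator of `x` with a bad
involution of `Mx`. -/
theorem Vx_eq : (∀ y ∈ Vx D x a b, y = 1 ∨ y = x) ∧
    ∀ d ∈ memCent D x a, ∃ w, Bad G Ω w ∧ w ∈ Mx U hx ha ∧ bet x w = d := by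
  classical
  haveI := U.faithful
  haveI := U.finite_pts
  set M := Mx U hx ha with hM
  set V := Vx D x a b with hV
  set E := ES D x a with hE
  let P := {p : Ω // p ≠ a}
  letI : MulAction M P :=
    { smul := fun s p => ⟨(s : G) • p.1,
        fun h => p.2 (MulAction.injective (s : G) (h.trans s.2.1.1.symm))⟩
      one_smul := fun p => Subtype.ext (one_smul G p.1)
      mul_smul := fun s t p => Subtype.ext (mul_smul (s : G) (t : G) p.1) }
  haveI : Finite P := Subtype.finite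
  haveI := Fintype.ofFinite M
  haveI := Fintype.ofFinite P
  haveI := Fintype.ofFinite (Quotient (MulAction.orbitRel M P))
  haveI : ∀ s : M, Fintype (MulAction.fixedBy P s) := fun s => Fintype.ofFinite _
  have hsum := MulAction.sum_card_fixedBy_eq_card_orbits_mul_card_group M P
  have hP : Nat.card P = q ^ 3 := by
    haveI := Fintype.ofFinite Ω
    rw [Nat.card_eq_fintype_card, Fintype.card_subtype_compl, Fintype.card_subtype_eq,
      ← Nat.card_eq_fintype_card, one_card_points U, Nat.add_sub_cancel]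
  have hterm : ∀ s : M, Fintype.card (MulAction.fixedBy P s) =
      (if (s : G) = 1 then q ^ 3 else 0) + (if Bad G Ω (s : G) then q else 0) := by
    intro s
    rw [← Nat.card_eq_fintype_card]
    by_cases h1 : (s : G) = 1
    · rw [if_pos h1, if_neg (fun h => invol_ne_one h.invol h1), add_zero, ← hP]
      exact Nat.card_congr (Equiv.subtypeUnivEquiv fun p => Subtype.ext (by
        show (s : G) • p.1 = p.1
        rw [h1, one_smul]))
    rw [if_neg h1, zero_add]
    by_cases hs : Bad G Ω (s : G)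
    · rw [if_pos hs]
      have h1 := U.card_fix _ hs
      have h2 := Set.ncard_diff_singleton_add_one
        (show a ∈ {p : Ω | (s : G) • p = p} from s.2.1.1)
      rw [← Nat.card_coe_set_eq, ← Nat.card_coe_set_eq] at h2
      have h3 : Nat.card ↥({p : Ω | (s : G) • p = p} \ {a}) + 1 = q + 1 := h2.trans h1
      rw [← Nat.succ_injective h3]
      exact Nat.card_congr
        { toFun := fun p => ⟨p.1.1, congrArg Subtype.val p.2, p.1.2⟩
          invFun := fun p => ⟨⟨p.1, p.2.2⟩, Subtype.ext p.2.1⟩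
          left_inv := fun p => rfl
          right_inv := fun p => rfl }
    · rw [if_neg hs, Nat.card_eq_zero]
      refine Or.inl ⟨fun ⟨p, hp⟩ => hs ?_⟩
      have hsp : (s : G) • p.1 = p.1 := congrArg Subtype.val hp
      have hss : (s : G) * s = 1 := U.ES_free hx ha (Mx_sq U hx ha hb hba s.2)
        (by rw [mul_smul, hsp, hsp]) p.2
      exact ⟨invol_iff.2 ⟨hss, h1⟩, a, p.1, Ne.symm p.2, s.2.1.1, hsp⟩
  rw [Finset.sum_congr rfl fun s _ => hterm s, Finset.sum_add_distrib] at hsum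
  have hone : (∑ s : M, if (s : G) = 1 then q ^ 3 else 0) = q ^ 3 := by
    rw [Finset.sum_eq_single (1 : M)]
    · simp
    · exact fun s _ hs => if_neg fun h => hs (Subtype.ext h)
    · exact fun h => absurd (Finset.mem_univ _) h
  set nb := Nat.card {s : M // Bad G Ω (s : G)}
  have hbad : (∑ s : M, if Bad G Ω (s : G) then q else 0) = nb * q := by
    rw [← Finset.sum_filter, Finset.sum_const, smul_eq_mul, ← Fintype.card_subtype,
      ← Nat.card_eq_fintype_card]
  rw [hone, hbad, ← Nat.card_eq_fintype_card (α := M), card_Mx U hx ha hb hba] at hsum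
  -- the bad involutions
  set A := {d : G // d ∈ memCent D x a ∧ ∃ w, Bad G Ω w ∧ w ∈ M ∧ bet x w = d}
  have hA : ∀ d : A, ∃ w, Bad G Ω w ∧ w ∈ M ∧ bet x w = d.1 := fun d => d.2.2
  choose W hWb hWM hWd using hA
  have hd1 : ∀ d : A, (d : G) ≠ 1 := fun d h =>
    invol_ne_one (U.min.act.invol _ d.2.1.1.1) h
  have hnb : nb = (Nat.card {v : V // (v : G) ≠ 1} + Nat.card A) * q := by
    rw [← Nat.card_sum, ← U.card_ES hx ha, ← Nat.card_prod]
    refine (Nat.card_eq_of_bijective (fun p : ({v : V // (v : G) ≠ 1} ⊕ A) × E =>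
      (⟨⟨Sum.elim (fun v => (v.1 : G)) W p.1 * p.2, ?_⟩, ?_⟩ : {s : M // Bad G Ω (s : G)}))
      ⟨?_, ?_⟩).symm
    · refine mul_mem ?_ (ES_le_Mx U hx ha p.2.2)
      rcases p.1 with v | d
      exacts [Vx_le_Mx U hx ha v.1.2, hWM d]
    · rcases p.1 with v | d
      · have hvb := Vx_bad U hx ha hb hba v.1.2 v.2
        have hvC := (mem_Vx.1 v.1.2).1
        exact (U.bad_mul_ES hvb hvC.1 ((U.ES_eq hx ha hvb hvC).symm ▸ p.2.2)).1
      · exact (U.bad_mul_ES (hWb d) (hWM d).1.1
          ((U.ES_eq hx ha (hWb d) (hWM d).1).symm ▸ p.2.2)).1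
    · have hbe : ∀ (s : G) (e : E), s ∈ M → bet x (s * e) = bet x s := fun s e hs => by
        rw [bet_mul U hx ha hs.1 (ES_le_Mx U hx ha e.2).2,
          bet_of_commute hx (U.ES_comm_self hx ha e.2), mul_one]
      rintro ⟨p, e⟩ ⟨p', e'⟩ h
      have h' : Sum.elim (fun v : {v : V // (v : G) ≠ 1} => (v.1 : G)) W p * e =
          Sum.elim (fun v : {v : V // (v : G) ≠ 1} => (v.1 : G)) W p' * e' :=
        congrArg (fun t : {s : M // Bad G Ω (s : G)} => ((t : M) : G)) h
      rcases p with v | d <;> rcases p' with v' | d' <;> simp only [Sum.elim_inl, Sum.elim_inr] at h'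
      · have hv : (v.1 : G) • b = b := (mem_Vx.1 v.1.2).2.1
        have hv' : (v'.1 : G) • b = b := (mem_Vx.1 v'.1.2).2.1
        have h1 : (e : G) • b = (e' : G) • b := by
          have hc := (((U.mem_CE hx ha).1 (mem_Vx.1 v.1.2).1).2 e e.2).eq
          have hc' := (((U.mem_CE hx ha).1 (mem_Vx.1 v'.1.2).1).2 e' e'.2).eq
          rw [hc, hc'] at h'
          have := congrArg (fun g : G => g • b) h'
          simpa [mul_smul, hv, hv'] using this
        obtain rfl : e = e' := Subtype.ext (U.ES_smul_inj hx ha e.2 e'.2 hba h1)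
        rw [show v = v' from Subtype.ext (Subtype.ext (mul_right_cancel h'))]
      · exfalso
        refine hd1 d' ?_
        rw [← hWd d', ← hbe (W d') e' (hWM d'), ← h', hbe _ e (Vx_le_Mx U hx ha v.1.2)]
        exact bet_of_commute hx (mem_Vx.1 v.1.2).2.2
      · exfalso
        refine hd1 d ?_
        rw [← hWd d, ← hbe (W d) e (hWM d), h', hbe _ e' (Vx_le_Mx U hx ha v'.1.2)]
        exact bet_of_commute hx (mem_Vx.1 v'.1.2).2.2
      · obtain rfl : d = d' := Subtype.ext (by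
          rw [← hWd d, ← hbe (W d) e (hWM d), h', hbe _ e' (hWM d'), hWd])
        rw [Subtype.ext (mul_left_cancel h')]
    · rintro ⟨⟨s, hs⟩, hsb⟩
      by_cases h1 : bet x s = 1
      · obtain ⟨e, he, hev⟩ := bad_same_one U hx ha hb hba hsb hs h1
        have hne : e * s ≠ 1 := fun h => by
          have hsE : s ∈ E := by rw [eq_inv_of_mul_eq_one_right h]; exact inv_mem he
          rcases (U.mem_ES hx ha).1 hsE with h2 | h2
          · exact invol_ne_one hsb.invol h2
          · exact U.pre.not_bad_of_mem h2.1.1 hsb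
        refine ⟨(Sum.inl ⟨⟨e * s, hev⟩, hne⟩, ⟨e, he⟩), Subtype.ext (Subtype.ext ?_)⟩
        show e * s * e = s
        rw [mul_assoc, (((U.mem_CE hx ha).1 hs.1).2 e he).eq, ← mul_assoc,
          U.ES_mul_self hx ha he, one_mul]
      · have hd : bet x s ∈ memCent D x a := ((U.mem_ES hx ha).1 hs.2).resolve_left h1
        set d : A := ⟨bet x s, hd, s, hsb, hs, rfl⟩
        have hWE := bad_same U hx ha hb hba (hWb d) (hWM d) hsb hs (hWd d) (by rw [hWd]; exact h1)
        refine ⟨(Sum.inr d, ⟨W d * s, hWE⟩), Subtype.ext (Subtype.ext ?_)⟩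
        show W d * (W d * s) = s
        rw [← mul_assoc, invol_mul_self (hWb d).invol, one_mul]
  have hV1 : Nat.card {v : V // (v : G) ≠ 1} + 1 = Nat.card V := by
    haveI := Fintype.ofFinite V
    rw [Nat.card_congr (Equiv.subtypeEquivRight fun v : V =>
      (OneMemClass.coe_eq_one (x := v)).not), Nat.card_eq_fintype_card,
      Fintype.card_subtype_compl, Fintype.card_subtype_eq, Nat.card_eq_fintype_card]
    have : 0 < Fintype.card V := Fintype.card_pos
    omega
  rw [hnb] at hsum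
  set k := Nat.card A
  set v := Nat.card {v : V // (v : G) ≠ 1}
  set O := Fintype.card (Quotient (MulAction.orbitRel M P))
  -- all or none
  have hk : k = 0 ∨ k + 1 = q := by
    by_cases hempty : IsEmpty A
    · exact Or.inl (Nat.card_eq_zero.2 (Or.inl hempty))
    refine Or.inr ?_
    obtain ⟨d₀⟩ := not_isEmpty_iff.1 hempty
    rw [← U.card_cent x a hx ha]
    congr 1
    refine Nat.card_congr (Equiv.subtypeEquivRight fun d => ⟨And.left, fun hd => ⟨hd, ?_⟩⟩)
    obtain ⟨g, hgx, hgd⟩ :=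
      U.pre.loc_transitive hx d₀.2.1.1.1 d₀.2.1.2 hd.1.1 hd.2
    have hga : g • a = a := U.pre.eq_of_fix hd.1.1 (by
      rw [← hgd, mul_smul, mul_smul, inv_smul_smul, d₀.2.1.1.2]) hd.1.2
    have hgL : g ∈ LF x a := mem_LF.2 ⟨hga, hgx⟩
    have hcalc : bet x (g * W d₀ * g⁻¹) = g * bet x (W d₀) * g⁻¹ := by
      unfold bet
      have e : g⁻¹ * x * g = x := by rw [mul_assoc, ← hgx.eq, inv_mul_cancel_left]
      calc x * (g * W d₀ * g⁻¹ * x * (g * W d₀ * g⁻¹)⁻¹)
          = x * g * W d₀ * (g⁻¹ * x * g) * (W d₀)⁻¹ * g⁻¹ := by group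
        _ = g * (x * (W d₀ * x * (W d₀)⁻¹)) * g⁻¹ := by rw [e, ← hgx.eq]; group
    refine ⟨g * W d₀ * g⁻¹, bad_conj (hWb d₀) g, ⟨conj_CE U hx ha hgL (hWM d₀).1, ?_⟩, ?_⟩
    · rw [hcalc, hWd]; exact hgd ▸ subset_closure hd
    · rw [hcalc, hWd]; exact hgd
  obtain ⟨i, hi⟩ := U.two_pow
  obtain ⟨j, hj⟩ : ∃ j, Nat.card V = 2 ^ j := by
    haveI : Fact (Nat.Prime 2) := ⟨Nat.prime_two⟩
    exact IsPGroup.iff_card.1 fun y : V => ⟨1, Subtype.ext (by
      rw [pow_one, Subgroup.coe_pow, pow_two, Subgroup.coe_one]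
      exact Vx_sq U hx ha hb hba y.2)⟩
  have hV2 : 2 ≤ Nat.card V := by
    haveI : Nontrivial V := ⟨⟨⟨x, self_mem_Vx U hx ha hb⟩, 1, fun h =>
      invol_ne_one hx.invol (congrArg Subtype.val h)⟩⟩
    exact Finite.one_lt_card
  have hq := U.four_le
  have key : q + v + k = O * Nat.card V := by
    refine Nat.eq_of_mul_eq_mul_left (show 0 < q * q by positivity) ?_
    linear_combination hsum
  have hdvd : Nat.card V ∣ q + v + k := ⟨O, by rw [key, mul_comm]⟩
  have h1 : Nat.card V ∣ q ∨ q ∣ Nat.card V := by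
    rw [hi, hj]
    rcases le_total i j with h | h
    · exact Or.inr (pow_dvd_pow 2 h)
    · exact Or.inl (pow_dvd_pow 2 h)
  obtain ⟨hk1, hVq⟩ : k + 1 = q ∧ Nat.card V = 2 := by
    rcases hk with hk | hk
    · exfalso
      rw [hk] at hdvd
      rcases h1 with h | ⟨c, hc⟩
      · have h2 : Nat.card V ∣ 1 := by
          have h3 : Nat.card V ∣ q + v + 1 := by
            rw [show q + v + 1 = q + (v + 1) by ring, hV1]; exact dvd_add h (dvd_refl _)
          rw [add_zero] at hdvd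
          exact (Nat.dvd_add_right hdvd).1 h3
        have := Nat.le_of_dvd one_pos h2
        omega
      · have h2 : q ∣ q + v := (Dvd.intro c hc.symm).trans (by simpa using hdvd)
        have h3 : q ∣ v := (Nat.dvd_add_right (dvd_refl q)).1 h2
        have h4 : q ∣ v + 1 := by rw [hV1, hc]; exact Dvd.intro c rfl
        have := Nat.le_of_dvd one_pos ((Nat.dvd_add_right h3).1 h4)
        omega
    · refine ⟨hk, ?_⟩
      rcases h1 with h | ⟨c, hc⟩
      · have h3 : Nat.card V ∣ q + v + k + 2 := by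
          rw [show q + v + k + 2 = q + (v + 1) + (k + 1) by ring, hV1, hk]
          exact dvd_add (dvd_add h (dvd_refl _)) h
        exact le_antisymm (Nat.le_of_dvd two_pos ((Nat.dvd_add_right hdvd).1 h3)) hV2
      · exfalso
        have h2 : q ∣ q + v + k := (Dvd.intro c hc.symm).trans hdvd
        have h3 : q ∣ q + v + k + 2 := by
          rw [show q + v + k + 2 = q + (v + 1) + (k + 1) by ring, hV1, hk, hc]
          exact dvd_add (dvd_add (dvd_refl _) (Dvd.intro c rfl)) (dvd_refl _)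
        have := Nat.le_of_dvd two_pos ((Nat.dvd_add_right h2).1 h3)
        omega
  refine ⟨fun y hy => ?_, fun d hd => ?_⟩
  · by_contra hne
    rw [not_or] at hne
    have h3 : 3 ≤ Nat.card V := by
      have hsub : ({1, x, y} : Finset G).card = 3 :=
        Finset.card_eq_three.2 ⟨1, x, y, (invol_ne_one hx.invol).symm, (Ne.symm hne.1),
          (Ne.symm hne.2), rfl⟩
      rw [← hsub, ← Set.ncard_coe_finset, show Nat.card V = (V : Set G).ncard from
        Nat.card_coe_set_eq _]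
      refine Set.ncard_le_ncard ?_ (Set.toFinite _)
      intro z hz
      simp only [Finset.coe_insert, Finset.coe_singleton, Set.mem_insert_iff,
        Set.mem_singleton_iff] at hz
      rcases hz with rfl | rfl | rfl
      exacts [one_mem V, self_mem_Vx U hx ha hb, hy]
    omega
  · have hsub : {d : G | d ∈ memCent D x a ∧ ∃ w, Bad G Ω w ∧ w ∈ M ∧ bet x w = d} =
        memCent D x a := by
      refine Set.eq_of_subset_of_ncard_le (fun d hd => hd.1) ?_ (Set.toFinite _)
      rw [← Nat.card_coe_set_eq, ← Nat.card_coe_set_eq]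
      have h5 := U.card_cent x a hx ha
      show Nat.card (memCent D x a) ≤ k
      omega
    exact (hsub.symm ▸ hd).2

end Cfsg.Agent.Lib.Crit5.KillOne
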