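import Cfsg.Agent.Lib.Crit5.KillOne.One

/-!
# The single fixed point criterion, type one with `r = 1`: the subgroup `Tr`

`Tr` consists of the elements `s` of `Mx` with `x * s` bad; it has index two, `Mx` is the union of
`Tr` and `x * Tr`, and the square of an element of `Tr` is its commutator with `x`.
Owner: helper67.
-/

set_option autoImplicit false
set_option linter.style.haveILetI false
set_option linter.unusedSectionVars false

namespace Cfsg.Agent.Lib.Crit5.KillOne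

open MulAction Subgroup Cfsg.Agent.Lib.Involutions.Basic
open Cfsg.Agent.Lib.Crit8 (Action Pre Bad memAt memSwap)

universe u

variable {G Ω : Type u} [Group G] [MulAction G Ω] [Finite G] {D : Set G} {q : ℕ}
  (U : Uni D Ω q 1) {x : G} {a : Ω} (hx : Bad G Ω x) (ha : x • a = a)

include U hx ha

theorem cent_one {y : G} (hy : y ∈ CE D x a) (hyx : Commute y x) :
    y ∈ ES D x a ∨ x * y ∈ ES D x a := by
  obtain ⟨b, hba, hb⟩ := U.exists_other hx ha
  obtain ⟨e, he, hev⟩ := cent_split U hx ha hb hba hy hyx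
  rcases (Vx_eq U hx ha hb hba).1 _ hev with h | h
  · left
    rw [eq_inv_of_mul_eq_one_right h]
    exact inv_mem he
  · right
    rw [eq_inv_mul_iff_mul_eq.2 h, U.ES_inv hx ha he, ← mul_assoc,
      ← (U.ES_comm_self hx ha he).eq, mul_assoc, invol_mul_self hx.invol, mul_one]
    exact he

theorem bet_mul_ES {s e : G} (hs : s ∈ CE D x a) (he : e ∈ ES D x a) :
    bet x (s * e) = bet x s := by
  rw [bet_mul U hx ha hs (ES_le_Mx U hx ha he).2,
    bet_of_commute hx (U.ES_comm_self hx ha he), mul_one]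

theorem bet_self_mul {s : G} (hs : s ∈ Mx U hx ha) : bet x (x * s) = bet x s := by
  rw [bet_mul U hx ha (U.self_mem_CE hx ha) hs.2, bet_of_commute hx (Commute.refl x), one_mul]

theorem bad_ES {w e : G} (hw : Bad G Ω w) (hwM : w ∈ Mx U hx ha) (he : e ∈ ES D x a) :
    Bad G Ω (w * e) :=
  (U.bad_mul_ES hw hwM.1.1 ((U.ES_eq hx ha hw hwM.1).symm ▸ he)).1

/-- The commutator with `x` is the square of `x` times a bad involution. -/
theorem sq_self_mul {w : G} (hw : Bad G Ω w) (hwM : w ∈ Mx U hx ha) :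
    x * w * (x * w) = bet x w := by
  rw [bet, invol_inv hw.invol]; group

/-- Bad involutions of `Mx` with different commutators do not commute. -/
theorem bad_not_commute {w₁ w₂ : G} (h₁ : Bad G Ω w₁) (hM₁ : w₁ ∈ Mx U hx ha) (h₂ : Bad G Ω w₂)
    (hM₂ : w₂ ∈ Mx U hx ha) (hne : bet x w₁ ≠ bet x w₂) : ¬ Commute w₁ w₂ := by
  intro hc
  by_cases hd : bet x w₂ = 1
  · rw [hd] at hne
    refine hne ((bet_eq_one hx).2 ?_)
    rcases cent_one U hx ha hM₂.1 ((bet_eq_one hx).1 hd) with h | h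
    · rcases (U.mem_ES hx ha).1 h with h' | h'
      · exact absurd h' (invol_ne_one h₂.invol)
      · exact absurd h₂ (U.pre.not_bad_of_mem h'.1.1)
    · have h3 := hc.mul_right (((U.mem_CE hx ha).1 hM₁.1).2 _ h)
      have hxx := invol_mul_self hx.invol
      have hcx : Commute w₂ x := (bet_eq_one hx).1 hd
      rwa [← mul_assoc, hcx.eq, mul_assoc, invol_mul_self h₂.invol, mul_one] at h3
  · have hC := U.CE_eq hx ha h₁ hM₁.1
    have hE := U.ES_eq hx ha h₁ hM₁.1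
    rcases cent_one U h₁ hM₁.1.1 (hC.symm ▸ hM₂.1) hc.symm with h | h <;> rw [hE] at h
    · exact hd (bet_of_commute hx (U.ES_comm_self hx ha h))
    · refine hne ?_
      have h4 := bet_of_commute hx (U.ES_comm_self hx ha h)
      rw [bet_mul U hx ha hM₁.1 hM₂.2, mul_eq_one_iff_eq_inv, U.ES_inv hx ha hM₂.2] at h4
      exact h4

theorem exists_bad_bet {d : G} (hd : d ∈ ES D x a) :
    ∃ w, Bad G Ω w ∧ w ∈ Mx U hx ha ∧ bet x w = d := by
  rcases (U.mem_ES hx ha).1 hd with rfl | hm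
  · exact ⟨x, hx, self_mem_Mx U hx ha, bet_of_commute hx (Commute.refl x)⟩
  · obtain ⟨b, hba, hb⟩ := U.exists_other hx ha
    exact (Vx_eq U hx ha hb hba).2 d hm

/-- Two bad involutions of `Mx`: `x` times their product is bad. -/
theorem bad_mul_bad {w₁ w₂ : G} (h₁ : Bad G Ω w₁) (hM₁ : w₁ ∈ Mx U hx ha) (h₂ : Bad G Ω w₂)
    (hM₂ : w₂ ∈ Mx U hx ha) : Bad G Ω (x * (w₁ * w₂)) := by
  obtain ⟨b, hba, hb⟩ := U.exists_other hx ha
  have hxM := self_mem_Mx U hx ha
  by_cases hne : bet x w₁ = bet x w₂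
  · have h : w₁ * w₂ ∈ ES D x a := by
      by_cases hd : bet x w₁ = 1
      · have key : ∀ w, Bad G Ω w → w ∈ Mx U hx ha → bet x w = 1 → x * w ∈ ES D x a := by
          intro w hw hwM hwd
          rcases cent_one U hx ha hwM.1 ((bet_eq_one hx).1 hwd) with h | h
          · rcases (U.mem_ES hx ha).1 h with h' | h'
            · exact absurd h' (invol_ne_one hw.invol)
            · exact absurd hw (U.pre.not_bad_of_mem h'.1.1)
          · exact h
        have k₁ := key w₁ h₁ hM₁ hd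
        have k₂ := key w₂ h₂ hM₂ (hne ▸ hd)
        have hc : Commute w₁ x := (bet_eq_one hx).1 hd
        have h := mul_mem k₁ k₂
        rwa [← hc.eq, show w₁ * x * (x * w₂) = w₁ * (x * x) * w₂ by group,
          invol_mul_self hx.invol, mul_one] at h
      · exact bad_same U hx ha hb hba h₁ hM₁ h₂ hM₂ hne hd
    exact bad_ES U hx ha hx hxM h
  · obtain ⟨w, hw, hwM, hwd⟩ := exists_bad_bet U hx ha (mul_mem hM₁.2 hM₂.2)
    have hs : w₁ * w₂ ∈ Mx U hx ha := mul_mem hM₁ hM₂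
    have hk : bet x (w₁ * w₂ * w) = 1 := by
      rw [bet_mul U hx ha hs.1 hwM.2, bet_mul U hx ha hM₁.1 hM₂.2, hwd,
        U.ES_mul_self hx ha (mul_mem hM₁.2 hM₂.2)]
    rcases cent_one U hx ha (mul_mem hs.1 hwM.1) ((bet_eq_one hx).1 hk) with h | h
    · exfalso
      refine bad_not_commute U hx ha h₁ hM₁ h₂ hM₂ hne ?_
      have hb' := bad_ES U hx ha hw hwM h
      have e : w * (w₁ * w₂ * w) = w₁ * w₂ := by
        rw [(((U.mem_CE hx ha).1 hwM.1).2 _ h).eq, mul_assoc, invol_mul_self hw.invol, mul_one]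
      rw [e] at hb'
      have h5 := invol_inv hb'.invol
      rw [mul_inv_rev, invol_inv h₁.invol, invol_inv h₂.invol] at h5
      exact h5.symm
    · have hb' := bad_ES U hx ha hw hwM h
      have e : w * (x * (w₁ * w₂ * w)) = x * (w₁ * w₂) := by
        rw [(((U.mem_CE hx ha).1 hwM.1).2 _ h).eq, mul_assoc x, mul_assoc (w₁ * w₂),
          invol_mul_self hw.invol, mul_one]
      rwa [e] at hb'

/-- The product of elements `s` with `x * s` bad has this property. -/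
theorem tr_mul {s t : G} (hs : s ∈ Mx U hx ha) (hsb : Bad G Ω (x * s)) (ht : t ∈ Mx U hx ha)
    (htb : Bad G Ω (x * t)) : Bad G Ω (x * (s * t)) := by
  have hxM := self_mem_Mx U hx ha
  have hxx := invol_mul_self hx.invol
  have hw₁ : x * s ∈ Mx U hx ha := mul_mem hxM hs
  have h := bad_mul_bad U hx ha hsb hw₁ htb (mul_mem hxM ht)
  have hd : bet x s ∈ ES D x a := hs.2
  have e1 : s * s = bet x s := by
    have := sq_self_mul U hx ha hsb hw₁
    rwa [bet_self_mul U hx ha hs, ← mul_assoc x x s, hxx, one_mul] at this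
  have e2 : x * s * x = s⁻¹ := eq_inv_of_mul_eq_one_left (by
    rw [show x * s * x * s = x * s * (x * s) by group, invol_mul_self hsb.invol])
  have h3 := bad_ES U hx ha h (mul_mem hxM (mul_mem hw₁ (mul_mem hxM ht))) hd
  have hc : Commute (x * t) (bet x s) :=
    ((U.mem_CE hx ha).1 (mul_mem (U.self_mem_CE hx ha) ht.1)).2 _ hd
  have hc' : Commute x (bet x s) := ((U.mem_CE hx ha).1 (U.self_mem_CE hx ha)).2 _ hd
  have e : x * (x * s * (x * t)) * bet x s = x * (s * t) := by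
    rw [show x * (x * s * (x * t)) * bet x s = x * (x * s * x) * t * bet x s by group, e2]
    rw [mul_assoc (x * s⁻¹) t, (((U.mem_CE hx ha).1 ht.1).2 _ hd).eq, ← e1]
    group
  rwa [e] at h3

/-- The elements `s` of `Mx` with `x * s` bad. -/
def Tr : Subgroup G where
  carrier := {s | s ∈ Mx U hx ha ∧ Bad G Ω (x * s)}
  one_mem' := ⟨one_mem _, by rw [mul_one]; exact hx⟩
  mul_mem' := fun hs ht => ⟨mul_mem hs.1 ht.1, tr_mul U hx ha hs.1 hs.2 ht.1 ht.2⟩
  inv_mem' := fun {s} hs => ⟨inv_mem hs.1, by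
    obtain ⟨b, hba, hb⟩ := U.exists_other hx ha
    have h2 := Mx_sq U hx ha hb hba hs.1
    have e : s⁻¹ = s * (s * s) := inv_eq_of_mul_eq_one_right (by
      rw [← mul_assoc, U.ES_mul_self hx ha h2])
    rw [e, ← mul_assoc]
    exact bad_ES U hx ha hs.2 (mul_mem (self_mem_Mx U hx ha) hs.1) h2⟩

omit U hx ha in
theorem mem_Tr {U : Uni D Ω q 1} {hx : Bad G Ω x} {ha : x • a = a} {s : G} :
    s ∈ Tr U hx ha ↔ s ∈ Mx U hx ha ∧ Bad G Ω (x * s) := Iff.rfl

theorem Tr_le : Tr U hx ha ≤ Mx U hx ha := fun _ h => h.1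

theorem ES_le_Tr : ES D x a ≤ Tr U hx ha := fun _ he =>
  ⟨ES_le_Mx U hx ha he, bad_ES U hx ha hx (self_mem_Mx U hx ha) he⟩

theorem self_not_mem_Tr : x ∉ Tr U hx ha := fun h =>
  invol_ne_one h.2.invol (invol_mul_self hx.invol)

theorem self_mul_mem_Tr {w : G} (hw : Bad G Ω w) (hwM : w ∈ Mx U hx ha) : x * w ∈ Tr U hx ha :=
  ⟨mul_mem (self_mem_Mx U hx ha) hwM, by
    rw [← mul_assoc, invol_mul_self hx.invol, one_mul]; exact hw⟩

theorem bad_mul_mem_Tr {w₁ w₂ : G} (h₁ : Bad G Ω w₁) (hM₁ : w₁ ∈ Mx U hx ha) (h₂ : Bad G Ω w₂)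
    (hM₂ : w₂ ∈ Mx U hx ha) : w₁ * w₂ ∈ Tr U hx ha :=
  ⟨mul_mem hM₁ hM₂, bad_mul_bad U hx ha h₁ hM₁ h₂ hM₂⟩

theorem Tr_sq {s : G} (hs : s ∈ Tr U hx ha) : s * s = bet x s := by
  have h := sq_self_mul U hx ha hs.2 (mul_mem (self_mem_Mx U hx ha) hs.1)
  rwa [bet_self_mul U hx ha hs.1, ← mul_assoc x x s, invol_mul_self hx.invol, one_mul] at h

theorem Tr_eq_mod {s t : G} (hs : s ∈ Tr U hx ha) (ht : t ∈ Tr U hx ha)
    (h : bet x s = bet x t) : s * t⁻¹ ∈ ES D x a := by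
  have hm : s * t⁻¹ ∈ Tr U hx ha := mul_mem hs (inv_mem ht)
  have hk : bet x (s * t⁻¹) = 1 := by
    have h1 := bet_mul U hx ha hm.1.1 ht.1.2
    rw [inv_mul_cancel_right, h] at h1
    exact mul_eq_right.1 h1.symm
  rcases cent_one U hx ha hm.1.1 ((bet_eq_one hx).1 hk) with h' | h'
  · exact h'
  · exfalso
    refine self_not_mem_Tr U hx ha ?_
    have := mul_mem (ES_le_Tr U hx ha h') (inv_mem hm)
    rwa [mul_inv_cancel_right] at this

theorem Tr_of_bet {s : G} (hs : s ∈ Mx U hx ha) :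
    s ∈ Tr U hx ha ∨ x * s ∈ Tr U hx ha := by
  obtain ⟨w, hw, hwM, hwd⟩ := exists_bad_bet U hx ha hs.2
  have hk : bet x (s * w) = 1 := by
    rw [bet_mul U hx ha hs.1 hwM.2, hwd, U.ES_mul_self hx ha hs.2]
  rcases cent_one U hx ha (mul_mem hs.1 hwM.1) ((bet_eq_one hx).1 hk) with h | h
  · right
    refine self_mul_mem_Tr U hx ha ?_ hs
    have h2 := bad_ES U hx ha hw hwM h
    rwa [(((U.mem_CE hx ha).1 hwM.1).2 _ h).eq, mul_assoc, invol_mul_self hw.invol, mul_one] at h2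
  · left
    refine ⟨hs, ?_⟩
    have h2 := bad_ES U hx ha hw hwM h
    rwa [(((U.mem_CE hx ha).1 hwM.1).2 _ h).eq, mul_assoc x, mul_assoc s,
      invol_mul_self hw.invol, mul_one] at h2

theorem bad_iff_not_Tr {w : G} (hw : Bad G Ω w) (hwM : w ∈ Mx U hx ha) : w ∉ Tr U hx ha := by
  intro h
  have h2 := Tr_sq U hx ha h
  rw [invol_mul_self hw.invol] at h2
  rcases cent_one U hx ha hwM.1 ((bet_eq_one hx).1 h2.symm) with h' | h'
  · rcases (U.mem_ES hx ha).1 h' with h3 | h3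
    · exact invol_ne_one hw.invol h3
    · exact U.pre.not_bad_of_mem h3.1.1 hw
  · refine self_not_mem_Tr U hx ha ?_
    have := mul_mem (ES_le_Tr U hx ha h') (inv_mem h)
    rwa [mul_inv_cancel_right] at this

/-- The stabiliser of `a` normalising `Mx`. -/
def NM : Subgroup G := stabilizer G a ⊓ normalizer (Mx U hx ha : Set G)

omit U hx ha in
theorem NM_conj {U : Uni D Ω q 1} {hx : Bad G Ω x} {ha : x • a = a} {n s : G}
    (hn : n ∈ NM U hx ha) (hs : s ∈ Mx U hx ha) : n * s * n⁻¹ ∈ Mx U hx ha :=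
  (mem_normalizer_iff.1 hn.2 s).1 hs

theorem NM_Tr {n s : G} (hn : n ∈ NM U hx ha) (hs : s ∈ Tr U hx ha) :
    n * s * n⁻¹ ∈ Tr U hx ha := by
  have hxM := self_mem_Mx U hx ha
  have h := bad_mul_mem_Tr U hx ha (bad_conj hx n) (NM_conj hn hxM) (bad_conj hs.2 n)
    (NM_conj hn (mul_mem hxM hs.1))
  rwa [show n * x * n⁻¹ * (n * (x * s) * n⁻¹) = n * (x * x * s) * n⁻¹ by group,
    invol_mul_self hx.invol, one_mul] at h

theorem NM_bet {n s : G} (hn : n ∈ NM U hx ha) (hs : s ∈ Tr U hx ha) :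
    bet x (n * s * n⁻¹) = n * bet x s * n⁻¹ := by
  rw [← Tr_sq U hx ha hs, ← Tr_sq U hx ha (NM_Tr U hx ha hn hs)]
  group

theorem bet_conj {g : G} (hg : g ∈ LF x a) (s : G) : bet x (g * s * g⁻¹) = g * bet x s * g⁻¹ := by
  have hgx := (mem_LF.1 hg).2
  unfold bet
  have e : g⁻¹ * x * g = x := by rw [mul_assoc, ← hgx.eq, inv_mul_cancel_left]
  calc x * (g * s * g⁻¹ * x * (g * s * g⁻¹)⁻¹)
      = x * g * s * (g⁻¹ * x * g) * s⁻¹ * g⁻¹ := by group
    _ = g * (x * (s * x * s⁻¹)) * g⁻¹ := by rw [e, ← hgx.eq]; group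

theorem LF_le_NM : LF x a ≤ NM U hx ha := by
  intro g hg
  refine mem_inf.2 ⟨(mem_LF.1 hg).1, ?_⟩
  have key : ∀ g ∈ LF x a, ∀ s ∈ Mx U hx ha, g * s * g⁻¹ ∈ Mx U hx ha := fun g hg s hs =>
    ⟨conj_CE U hx ha hg hs.1, by rw [bet_conj U hx ha hg]; exact conj_ES U hx ha hg hs.2⟩
  refine mem_normalizer_iff.2 fun s => ⟨key g hg s, fun h => ?_⟩
  have := key g⁻¹ (inv_mem hg) _ h
  simpa [mul_assoc] using this

theorem LF_bad_le_NM {w : G} (hw : Bad G Ω w) (hwM : w ∈ Mx U hx ha) : LF w a ≤ NM U hx ha := by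
  obtain ⟨b, hba, hb⟩ := U.exists_other hx ha
  intro g hg
  have h := LF_le_NM U hw hwM.1.1 hg
  unfold NM at h ⊢
  rwa [Mx_eq U hx ha hb hba hw hwM] at h

theorem Mx_isPGroup : IsPGroup 2 (Mx U hx ha) := fun s => ⟨2, Subtype.ext (by
  obtain ⟨b, hba, hb⟩ := U.exists_other hx ha
  rw [Subgroup.coe_pow, Subgroup.coe_one]
  calc (s : G) ^ (2 ^ 2) = (s : G) * s * ((s : G) * s) := by simp [pow_succ, mul_assoc]
    _ = 1 := U.ES_mul_self hx ha (Mx_sq U hx ha hb hba s.2))⟩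

theorem le_NM : Mx U hx ha ≤ NM U hx ha := fun _ hs => mem_inf.2 ⟨hs.1.1, le_normalizer hs⟩

end Cfsg.Agent.Lib.Crit5.KillOne
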