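import Cfsg.Agent.Lib.Crit5.KillOne.Basic
import Cfsg.Agent.Lib.TwoTimesPSL.RingAutFacts

/-!
# The single fixed point criterion, type one: the semilinear action on the members

`LF D x a` is the centraliser of `x` fixing `a`; it normalises `ES` and `CE`.  A 2-subgroup of it
whose part centralising the members is central is commutative, its image being cyclic.
Owner: helper67.
-/

set_option autoImplicit false
set_option linter.style.haveILetI false
set_option linter.unusedSectionVars false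

namespace Cfsg.Agent.Lib.Crit5.KillOne

open MulAction Subgroup Cfsg.Agent.Lib.Involutions.Basic
open Cfsg.Agent.Lib.Crit8 (Action Pre Bad memAt memSwap)

universe u

variable {G Ω : Type u} [Group G] [MulAction G Ω] [Finite G] {D : Set G} {q r : ℕ}

/-- The elements fixing `a` and centralising `x`. -/
def LF (x : G) (a : Ω) : Subgroup G := stabilizer G a ⊓ centralizer {x}

theorem mem_LF {x g : G} {a : Ω} : g ∈ LF x a ↔ g • a = a ∧ Commute g x :=
  ⟨fun h => ⟨h.1, mem_centralizer_singleton_iff.1 h.2⟩,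
    fun h => ⟨h.1, mem_centralizer_singleton_iff.2 h.2.eq⟩⟩

variable (U : Uni D Ω q r) {x : G} {a : Ω} (hx : Bad G Ω x) (ha : x • a = a)
include U hx ha

theorem conj_ES {g : G} (hg : g ∈ LF x a) {e : G} (he : e ∈ ES D x a) :
    g * e * g⁻¹ ∈ ES D x a := by
  obtain ⟨hga, hgx⟩ := mem_LF.1 hg
  rcases (U.mem_ES hx ha).1 he with rfl | hd
  · simp
  · refine (U.mem_ES hx ha).2 (Or.inr ?_)
    have h1 := CountsB.conj_memCent U.min (g := g) hd
    rwa [hga, hgx.eq, mul_inv_cancel_right] at h1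

theorem conj_CE {g : G} (hg : g ∈ LF x a) {c : G} (hc : c ∈ CE D x a) :
    g * c * g⁻¹ ∈ CE D x a := by
  refine (U.mem_CE hx ha).2 ⟨?_, fun e he => ?_⟩
  · rw [mul_smul, mul_smul, inv_smul_eq_iff.2 (mem_LF.1 hg).1.symm, hc.1, (mem_LF.1 hg).1]
  · have h1 : g⁻¹ * e * g ∈ ES D x a := by simpa using conj_ES U hx ha (inv_mem hg) he
    have h2 := ((U.mem_CE hx ha).1 hc).2 _ h1
    have h3 : Commute (g * c * g⁻¹) (g * (g⁻¹ * e * g) * g⁻¹) := (Commute.conj_iff g).2 h2
    rwa [show g * (g⁻¹ * e * g) * g⁻¹ = e by group] at h3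

variable {K : Type*} [Field K] [Finite K] [CharP K 2] {ι : K → G} (T : Torus D x a K ι)
include T

theorem iota_mem (z : K) : ι z ∈ ES D x a := (U.mem_ES hx ha).2 ((T.range _).1 ⟨z, rfl⟩)

theorem exists_label {e : G} (he : e ∈ ES D x a) : ∃ z, ι z = e :=
  (T.range e).2 ((U.mem_ES hx ha).1 he)

/-- An element of the centraliser fixing every label centralises the members. -/
theorem mem_CE_of_fix {g : G} (hga : g • a = a) (h : ∀ z, g * ι z * g⁻¹ = ι z) :
    g ∈ CE D x a := by
  refine (U.mem_CE hx ha).2 ⟨hga, fun e he => ?_⟩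
  obtain ⟨z, rfl⟩ := exists_label U hx ha T he
  exact mul_inv_eq_iff_eq_mul.1 (h z)

/-- A 2-subgroup of the centraliser is commutative when its part centralising the members is
central. -/
theorem comm_of_torus {R : Subgroup G} (hR : R ≤ LF x a) (hR2 : IsPGroup 2 R)
    (hker : ∀ g ∈ R, g ∈ CE D x a → ∀ h ∈ R, Commute g h) :
    ∀ g ∈ R, ∀ h ∈ R, Commute g h := by
  classical
  have hsemi : ∀ g : R, ∃ cs : K × (K ≃+* K),
      ∀ z, (g : G) * ι z * (g : G)⁻¹ = ι (cs.1 * cs.2 z) := fun g => by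
    obtain ⟨hga, hgx⟩ := mem_LF.1 (hR g.2)
    obtain ⟨c, σ, h⟩ := T.semi g hga hgx
    exact ⟨(c, σ), h⟩
  choose cs hcs using hsemi
  have hc0 : ∀ g, (cs g).1 ≠ 0 := fun g e => by
    have h1 := hcs g 1
    rw [e, zero_mul, T.map_zero, mul_inv_eq_one, mul_eq_left, ← T.map_zero] at h1
    exact one_ne_zero (T.inj h1)
  have hcomp : ∀ g h : R, ∀ z,
      (cs (g * h)).1 * (cs (g * h)).2 z = (cs g).1 * (cs g).2 ((cs h).1 * (cs h).2 z) :=
    fun g h z => T.inj (by
      rw [← hcs, ← hcs g, ← hcs h, Subgroup.coe_mul]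
      group)
  let ψ : R →* (K ≃+* K) := MonoidHom.mk' (fun g => (cs g).2) fun g h => RingEquiv.ext fun z => by
    have h1 := hcomp g h 1
    simp only [map_one, mul_one] at h1
    have h2 := hcomp g h z
    rw [map_mul, ← mul_assoc, ← h1] at h2
    exact mul_left_cancel₀ (hc0 _) h2
  haveI := TwoTimesPSL.RingAutFacts.isCyclic_ringAut (K := K)
  have hψ : ψ.ker ≤ center R := by
    intro g hg
    have hσ : (cs g).2 = 1 := hg
    have hfix : ∀ j : ℕ, ∀ z, (g : G) ^ j * ι z * ((g : G) ^ j)⁻¹ = ι ((cs g).1 ^ j * z) := by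
      intro j
      induction j with
      | zero => intro z; simp
      | succ j ih =>
        intro z
        rw [pow_succ' (g : G), show (g : G) * (g : G) ^ j * ι z * ((g : G) * (g : G) ^ j)⁻¹ =
          (g : G) * ((g : G) ^ j * ι z * ((g : G) ^ j)⁻¹) * (g : G)⁻¹ by group, ih, hcs, hσ]
        congr 1
        show (cs g).1 * ((cs g).1 ^ j * z) = _
        ring
    obtain ⟨k, hk⟩ := hR2 g
    have hc1 : (cs g).1 = 1 := by
      refine iterateFrobenius_inj K 2 k ?_
      have h1 := hfix (2 ^ k) 1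
      rw [← Subgroup.coe_pow, hk, Subgroup.coe_one, one_mul, inv_one, mul_one, mul_one] at h1
      rw [iterateFrobenius_def, iterateFrobenius_def, one_pow]
      exact (T.inj h1).symm
    have hgC : (g : G) ∈ CE D x a := mem_CE_of_fix U hx ha T (mem_LF.1 (hR g.2)).1 fun z => by
      rw [hcs, hc1, hσ, one_mul]; rfl
    exact mem_center_iff.2 fun h => Subtype.ext (hker g g.2 hgC h h.2).symm.eq
  intro g hg h hh
  exact congrArg Subtype.val (commutative_of_cyclic_center_quotient ψ hψ ⟨g, hg⟩ ⟨h, hh⟩)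

end Cfsg.Agent.Lib.Crit5.KillOne
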